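import Groth.Agent.H87.HomDS

/-!
# Homomorphisms of split tori over a domain
-/

set_option autoImplicit false
universe u

open CategoryTheory MonoidalCategory CartesianMonoidalCategory MonObj GrpObj AlgebraicGeometry
open Groth.Agent.Lib.RedPts

namespace Groth.Agent.H82.Weyl

theorem exists_DSmap {A : CommRingCat.{u}} [IsDomain A] {M N : Type} [AddCommGroup M] [AddCommGroup N]
    (w : Red.DS (Spec A) N ⟶ Red.DS (Spec A) M) [IsMonHom w] : ∃ φ : M →+ N, w = Red.DSmap (Spec A) φ := by
  classical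
  let t : Spec A ⟶ Spec A := 𝟙 _
  choose f hf using fun m : M => H87.HomDS.exists_char t (w ≫ Red.chi (Spec A) m)
  have hadd : ∀ a b, f (a + b) = f a + f b := fun a b => by
    refine H87.HomDS.chi_injective t ((hf (a + b)).symm.trans ?_)
    rw [← Category.assoc, Gm.chi_add, Category.assoc, Category.assoc, hf, hf, Gm.chi_add]
  refine ⟨AddMonoidHom.mk' f hadd, ?_⟩
  obtain ⟨r, hr⟩ := H87.HomDS.exists_fac t N (X := Red.DS (Spec A) N) (Red.DS (Spec A) N).hom
    (Category.comp_id _) (𝟙 _)
  refine Gm.dsFn_ext fun m => ?_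
  have h1 := congrArg (fun q => Red.gmFn (r ≫ q)) (hf m)
  rw [← Category.id_comp (Red.DSmap (Spec A) _), Gm.dsFn_DSmap]
  simp only [← Category.assoc, hr, Category.id_comp, Gm.gmFn_chi] at h1
  rw [← Category.id_comp (Red.chi (Spec A) _), Gm.gmFn_chi] at h1
  exact h1

end Groth.Agent.H82.Weyl
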