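import Groth.Agent.H82.Contract.Gen
import Mathlib.AlgebraicGeometry.Sites.Fpqc

/-!
# Extending morphisms from the big cell to homomorphisms
-/

set_option autoImplicit false
set_option linter.style.haveILetI false
set_option linter.unusedSectionVars false
universe u

open CategoryTheory MonoidalCategory CartesianMonoidalCategory MonObj GrpObj AlgebraicGeometry
open Groth.Agent.Lib.RedPts Groth.Agent.H82.BigCell Groth.Agent.H82.Contract

namespace Groth.Agent.H82.Weyl

variable {S : Scheme.{u}} {G H : Over S} [GrpObj G] [GrpObj H] {D : Red.SplitRed G}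

theorem isOpenImmersion_of_base (b : D.P.Base) {n m : ℕ} (e : Fin n → D.idx) (e' : Fin m → D.idx)
    (he : RedSub.Enumerates (RedSub.negRoots D.P b) e) (he' : RedSub.Enumerates (RedSub.posRoots D.P b) e') :
    IsOpenImmersion (RedSub.cellMap D e e').left := by
  obtain ⟨l, hlp, hln⟩ := exists_regular (D := D) b
  have hn : ∀ k, l (D.P.root (e k)) < 0 := fun k => hln _ (he.2 ▸ Set.mem_range_self k)
  have hp : ∀ k, 0 < l (D.P.root (e' k)) := fun k => hlp _ (he'.2 ▸ Set.mem_range_self k)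
  refine isOpenImmersion_cellMap he.1 he'.1 hn hp ?_
  have hbij : Function.Bijective (Sum.elim e e') := by
    refine ⟨he.1.sumElim he'.1 fun a c hac => ?_, fun a => ?_⟩
    · have h1 := hn a
      rw [hac] at h1
      exact absurd (hp c) (not_lt.2 h1.le)
    · rcases b.root_mem_or_neg_mem a with h | h
      · obtain ⟨k, hk⟩ : a ∈ Set.range e' := he'.2 ▸ h
        exact ⟨Sum.inr k, hk⟩
      · obtain ⟨k, hk⟩ : a ∈ Set.range e := he.2 ▸ h
        exact ⟨Sum.inl k, hk⟩
  simpa using Fintype.card_of_bijective hbij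

variable {n m : ℕ} {e : Fin n → D.idx} {e' : Fin m → D.idx}

/-- Smooth-locally there is a generic translation putting finitely many points in the cell. -/
theorem exists_meet_many [IsOpenImmersion (RedSub.cellMap D e e').left] {κ : Type} [Finite κ] {X : Over S}
    (b : κ → ((G ⊗ X : Over S) ⟶ G))
    (hb : ∀ i (Y : Over S) (p : Y ⟶ X), ∃ w : Y ⟶ G, lift w p ≫ b i = 1) :
    ∃ (X' : Over S) (c : X' ⟶ X) (w : X' ⟶ G) (z : κ → (X' ⟶ RedSub.pow (Red.Ga S) n ⊗ (D.T ⊗ RedSub.pow (Red.Ga S) m))),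
      Flat c.left ∧ LocallyOfFinitePresentation c.left ∧ Surjective c.left ∧
        ∀ i, z i ≫ RedSub.cellMap D e e' = lift w c ≫ b i := by
  haveI := D.reductive.2.1
  let V := (RedSub.cellMap D e e').left.opensRange
  let E : (G ⊗ X).left.Opens := ⟨⋂ i, (b i).left ⁻¹' (V : Set G.left),
    isOpen_iInter_of_finite fun i => V.2.preimage (b i).left.continuous⟩
  let X' : Over S := Over.mk (E.ι ≫ (G ⊗ X).hom)
  let j : X' ⟶ G ⊗ X := Over.homMk E.ι rfl
  haveI : Smooth (snd G X).left := inferInstanceAs (Smooth (Limits.pullback.snd G.hom X.hom))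
  haveI : Flat (j ≫ snd G X).left := inferInstanceAs (Flat (E.ι ≫ (snd G X).left))
  haveI : LocallyOfFinitePresentation (j ≫ snd G X).left :=
    inferInstanceAs (LocallyOfFinitePresentation (E.ι ≫ (snd G X).left))
  have hsurj : Surjective (j ≫ snd G X).left := by
    refine ⟨fun p => ?_⟩
    let Y := ptObj X p
    haveI : IrreducibleSpace (G ⊗ Y).left := Groth.Agent.Lib.ActSep.irreducibleSpace_geomFibre
      (isConnected_fibre D) (X.left.fromSpecResidueField p ≫ X.hom)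
    let ψ : (G ⊗ Y : Over S) ⟶ G ⊗ X := G ◁ ptHom X p
    let y₀ : Y.left := IsLocalRing.closedPoint (X.left.residueField p)
    have h1 : ∀ (a : Y ⟶ G), a = 1 → a.left y₀ ∈ V := by
      rintro a rfl
      have := range_torus_subset (D := D) (e := e) (e' := e') (1 : Y ⟶ D.T)
      rw [MonObj.one_comp] at this
      exact this ⟨y₀, rfl⟩
    let η₀ := genericPoint ↥(G ⊗ Y).left
    have hη : ∀ i, (ψ ≫ b i).left η₀ ∈ V := fun i => by
      refine ((genericPoint_spec ↥(G ⊗ Y).left).mem_open_set_iff (V.2.preimage (ψ ≫ b i).left.continuous)).2 ?_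
      obtain ⟨w, hw⟩ := hb i Y (ptHom X p)
      refine ⟨(lift w (𝟙 Y)).left y₀, Set.mem_univ _, ?_⟩
      change (ψ ≫ b i).left ((lift w (𝟙 Y)).left y₀) ∈ V
      rw [← Scheme.Hom.comp_apply, ← Over.comp_left]
      refine h1 _ (Eq.trans ?_ hw)
      rw [← Category.assoc]
      refine congrArg (· ≫ b i) ?_
      apply CartesianMonoidalCategory.hom_ext <;> simp [ψ]
    refine ⟨(⟨ψ.left η₀, Set.mem_iInter.2 fun i => by
      have := hη i
      rw [Over.comp_left, Scheme.Hom.comp_apply] at this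
      exact this⟩ : E), ?_⟩
    change (snd G X).left (ψ.left η₀) = p
    rw [← Scheme.Hom.comp_apply, ← Over.comp_left, show ψ ≫ snd G X = snd G Y ≫ ptHom X p from by simp [ψ],
      Over.comp_left, Scheme.Hom.comp_apply]
    have h2 : (ptHom X p).left ((snd G Y).left η₀) ∈ Set.range (X.left.fromSpecResidueField p) := ⟨_, rfl⟩
    rwa [Scheme.range_fromSpecResidueField] at h2
  have hz : ∀ i, ∃ z, z ≫ RedSub.cellMap D e e' = j ≫ b i := fun i =>
    exists_factor (RedSub.cellMap D e e') (j ≫ b i) (by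
      rintro _ ⟨w, rfl⟩; exact Set.mem_iInter.1 w.2 i)
  choose z hz using hz
  refine ⟨X', j ≫ snd G X, j ≫ fst G X, z, inferInstance, inferInstance, hsurj, fun i => ?_⟩
  rw [hz i]
  refine congrArg (· ≫ b i) ?_
  apply CartesianMonoidalCategory.hom_ext <;> simp

theorem isMonHom_of_points {A B : Over S} [GrpObj A] [GrpObj B] (w : A ⟶ B)
    (h : ∀ (X : Over S) (a b : X ⟶ A), (a * b) ≫ w = (a ≫ w) * (b ≫ w)) : IsMonHom w where
  one_hom := by
    have h1 := h (𝟙_ (Over S)) 1 1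
    rw [_root_.one_mul] at h1
    rw [Gm.η_eq_one, Gm.η_eq_one]
    exact left_eq_mul.mp h1
  mul_hom := by
    rw [Gm.μ_eq_mul, h, Gm.tensorHom_μ]

/-- A morphism on the cell multiplicative where the product lies in the cell respects all products. -/
theorem prod_eq_prod [IsOpenImmersion (RedSub.cellMap D e e').left]
    (f : RedSub.pow (Red.Ga S) n ⊗ (D.T ⊗ RedSub.pow (Red.Ga S) m) ⟶ H)
    (hf : ∀ (X : Over S) (x y z : X ⟶ RedSub.pow (Red.Ga S) n ⊗ (D.T ⊗ RedSub.pow (Red.Ga S) m)),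
      z ≫ RedSub.cellMap D e e' = (x ≫ RedSub.cellMap D e e') * (y ≫ RedSub.cellMap D e e') →
        z ≫ f = (x ≫ f) * (y ≫ f))
    {X : Over S} (x y x' y' : X ⟶ RedSub.pow (Red.Ga S) n ⊗ (D.T ⊗ RedSub.pow (Red.Ga S) m))
    (h : (x ≫ RedSub.cellMap D e e') * (y ≫ RedSub.cellMap D e e') =
      (x' ≫ RedSub.cellMap D e e') * (y' ≫ RedSub.cellMap D e e')) :
    (x ≫ f) * (y ≫ f) = (x' ≫ f) * (y' ≫ f) := by
  set cx := x ≫ RedSub.cellMap D e e'
  set cy := y ≫ RedSub.cellMap D e e'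
  set cy' := y' ≫ RedSub.cellMap D e e'
  obtain ⟨X', c, w, z, hfl, -, hs, hz⟩ := exists_meet_many (e := e) (e' := e')
    ![fst G X, (snd G X ≫ cy) * fst G X, (snd G X ≫ cy') * fst G X, (snd G X ≫ (cx * cy)) * fst G X]
    (fun i Y p => by
      fin_cases i
      · exact ⟨1, by simp⟩
      · exact ⟨(p ≫ cy)⁻¹, by simp [MonObj.comp_mul]⟩
      · exact ⟨(p ≫ cy')⁻¹, by simp [MonObj.comp_mul]⟩
      · exact ⟨(p ≫ (cx * cy))⁻¹, by simp [MonObj.comp_mul]⟩)
  haveI := hfl; haveI := hs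
  have h0 : z 0 ≫ RedSub.cellMap D e e' = w := (hz 0).trans (by simp)
  have h1 : z 1 ≫ RedSub.cellMap D e e' = (c ≫ cy) * w := (hz 1).trans (by simp [MonObj.comp_mul])
  have h2 : z 2 ≫ RedSub.cellMap D e e' = (c ≫ cy') * w := (hz 2).trans (by simp [MonObj.comp_mul])
  have h3 : z 3 ≫ RedSub.cellMap D e e' = (c ≫ (cx * cy)) * w := (hz 3).trans (by simp [MonObj.comp_mul])
  have e1 := hf X' (c ≫ y) (z 0) (z 1) (by rw [h1, h0, Category.assoc])
  have e2 := hf X' (c ≫ y') (z 0) (z 2) (by rw [h2, h0, Category.assoc])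
  have e3 := hf X' (c ≫ x) (z 1) (z 3) (by rw [h3, h1, Category.assoc, MonObj.comp_mul, _root_.mul_assoc])
  have e4 := hf X' (c ≫ x') (z 2) (z 3) (by
    rw [h3, h2, Category.assoc, h, MonObj.comp_mul, _root_.mul_assoc])
  rw [e1] at e3
  rw [e2, e3, ← _root_.mul_assoc, ← _root_.mul_assoc] at e4
  have e5 := mul_right_cancel e4
  haveI := Flat.epi_of_flat_of_surjective c.left
  refine RankOne.eq_of_epi (G := H) (c := c) inferInstance ?_
  simpa only [MonObj.comp_mul, Category.assoc] using e5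

/-- Morphisms on the cell compatible with the products extend uniquely to homomorphisms. -/
theorem existsUnique_extend [IsOpenImmersion (RedSub.cellMap D e e').left]
    (f : RedSub.pow (Red.Ga S) n ⊗ (D.T ⊗ RedSub.pow (Red.Ga S) m) ⟶ H)
    (hf : ∀ (X : Over S) (x y z : X ⟶ RedSub.pow (Red.Ga S) n ⊗ (D.T ⊗ RedSub.pow (Red.Ga S) m)),
      z ≫ RedSub.cellMap D e e' = (x ≫ RedSub.cellMap D e e') * (y ≫ RedSub.cellMap D e e') →
        z ≫ f = (x ≫ f) * (y ≫ f)) :
    ∃! g : G ⟶ H, IsMonHom g ∧ RedSub.cellMap D e e' ≫ g = f := by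
  obtain ⟨X', c, w, z, hfl, hfp, hs, hz⟩ := exists_meet_many (e := e) (e' := e')
    ![fst G G, (fst G G)⁻¹ * snd G G]
    (fun i Y p => by
      fin_cases i
      · exact ⟨1, by simp⟩
      · exact ⟨p, by simp [MonObj.comp_mul, GrpObj.comp_inv]⟩)
  haveI := hfl; haveI := hfp; haveI := hs
  haveI hepi : Epi c.left := Flat.epi_of_flat_of_surjective c.left
  have hc : c = (z 0 ≫ RedSub.cellMap D e e') * (z 1 ≫ RedSub.cellMap D e e') := by
    rw [hz 0, hz 1]; simp [MonObj.comp_mul, GrpObj.comp_inv]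
  let φ : X' ⟶ H := (z 0 ≫ f) * (z 1 ≫ f)
  have key : ∀ {W : Scheme.{u}} (g₁ g₂ : W ⟶ X'.left), g₁ ≫ c.left = g₂ ≫ c.left → g₁ ≫ φ.left = g₂ ≫ φ.left := by
    intro W g₁ g₂ hg
    let W' : Over S := Over.mk (g₁ ≫ X'.hom)
    let q₁ : W' ⟶ X' := Over.homMk g₁ rfl
    let q₂ : W' ⟶ X' := Over.homMk g₂ (by
      change g₂ ≫ X'.hom = g₁ ≫ X'.hom
      rw [← Over.w c, ← Category.assoc, ← hg, Category.assoc])
    have h : q₁ ≫ c = q₂ ≫ c := Over.OverMorphism.ext (by simpa [q₁, q₂] using hg)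
    rw [hc, MonObj.comp_mul, MonObj.comp_mul, ← Category.assoc, ← Category.assoc q₁, ← Category.assoc q₂,
      ← Category.assoc q₂] at h
    have h' : q₁ ≫ φ = q₂ ≫ φ := by
      simp only [φ, MonObj.comp_mul, ← Category.assoc]
      exact prod_eq_prod f hf _ _ _ _ h
    exact congrArg Over.Hom.left h'
  let g : G ⟶ H := Over.homMk (EffectiveEpi.desc c.left φ.left key) (by
    rw [← cancel_epi c.left, EffectiveEpi.fac_assoc, Over.w φ, Over.w c])
  have hcg : c ≫ g = φ := Over.OverMorphism.ext (by simp [g])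
  have hcov : ∀ {Y : Over S} (v : Y ⟶ G), ∃ (W : Over S) (q : W ⟶ Y) (p : W ⟶ X'), Epi q.left ∧ p ≫ c = q ≫ v := by
    intro Y v
    let W : Over S := Over.mk (Limits.pullback.fst v.left c.left ≫ Y.hom)
    let q : W ⟶ Y := Over.homMk (Limits.pullback.fst v.left c.left) rfl
    let p : W ⟶ X' := Over.homMk (Limits.pullback.snd v.left c.left) (by
      change _ ≫ X'.hom = _ ≫ Y.hom
      rw [← Over.w c, ← Category.assoc, ← Limits.pullback.condition, Category.assoc, Over.w v])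
    haveI : Flat q.left := inferInstanceAs (Flat (Limits.pullback.fst v.left c.left))
    haveI : Surjective q.left := inferInstanceAs (Surjective (Limits.pullback.fst v.left c.left))
    exact ⟨W, q, p, Flat.epi_of_flat_of_surjective _, Over.OverMorphism.ext (by
      simp [p, q, Limits.pullback.condition])⟩
  have hprod : ∀ {Y : Over S} (x y : Y ⟶ RedSub.pow (Red.Ga S) n ⊗ (D.T ⊗ RedSub.pow (Red.Ga S) m)),
      ((x ≫ RedSub.cellMap D e e') * (y ≫ RedSub.cellMap D e e')) ≫ g = (x ≫ f) * (y ≫ f) := fun {Y} x y => by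
    obtain ⟨W, q, p, hq, hpq⟩ := hcov ((x ≫ RedSub.cellMap D e e') * (y ≫ RedSub.cellMap D e e'))
    refine RankOne.eq_of_epi (G := H) hq ?_
    rw [← Category.assoc, ← hpq, Category.assoc, hcg]
    rw [hc, MonObj.comp_mul, MonObj.comp_mul, ← Category.assoc, ← Category.assoc p, ← Category.assoc q,
      ← Category.assoc q] at hpq
    simp only [φ, MonObj.comp_mul, ← Category.assoc]
    exact prod_eq_prod f hf _ _ _ _ hpq
  have hcell : RedSub.cellMap D e e' ≫ g = f := by
    obtain ⟨u, hu⟩ := exists_one (D := D) (e := e) (e' := e')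
      (RedSub.pow (Red.Ga S) n ⊗ (D.T ⊗ RedSub.pow (Red.Ga S) m))
    have h1 := hf _ (𝟙 _) u (𝟙 _) (by rw [hu, _root_.mul_one])
    have h2 := hprod (𝟙 _) u
    rw [hu, _root_.mul_one, Category.id_comp] at h2
    rw [h2, ← h1, Category.id_comp]
  have hstep : ∀ {Y : Over S} (v : Y ⟶ G) (y : Y ⟶ RedSub.pow (Red.Ga S) n ⊗ (D.T ⊗ RedSub.pow (Red.Ga S) m)),
      (v * (y ≫ RedSub.cellMap D e e')) ≫ g = (v ≫ g) * (y ≫ f) := fun {Y} v y => by
    obtain ⟨W, q, p, hq, hpq⟩ := hcov v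
    refine RankOne.eq_of_epi (G := H) hq ?_
    rw [← Category.assoc, MonObj.comp_mul, MonObj.comp_mul, ← Category.assoc q v, ← hpq, Category.assoc p, hcg, hc,
      MonObj.comp_mul, ← Category.assoc q y f, ← Category.assoc q y]
    simp only [φ, MonObj.comp_mul, ← Category.assoc]
    generalize p ≫ z 0 = x₀, p ≫ z 1 = y₀, q ≫ y = y₁
    obtain ⟨W', d, r, u, hfl', -, hs', hu⟩ := exists_meet_many (e := e) (e' := e')
      ![fst G W, (fst G W)⁻¹ * (snd G W ≫ ((y₀ ≫ RedSub.cellMap D e e') * (y₁ ≫ RedSub.cellMap D e e'))),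
        (snd G W ≫ x₀ ≫ RedSub.cellMap D e e') * fst G W]
      (fun i Y' p' => by
        fin_cases i
        · exact ⟨1, by simp⟩
        · exact ⟨p' ≫ ((y₀ ≫ RedSub.cellMap D e e') * (y₁ ≫ RedSub.cellMap D e e')), by
            simp [MonObj.comp_mul, GrpObj.comp_inv]⟩
        · exact ⟨(p' ≫ x₀ ≫ RedSub.cellMap D e e')⁻¹, by simp [MonObj.comp_mul]⟩)
    haveI := hfl'; haveI := hs'
    refine RankOne.eq_of_epi (G := H) (c := d) (Flat.epi_of_flat_of_surjective d.left) ?_
    have u0 : u 0 ≫ RedSub.cellMap D e e' = r := (hu 0).trans (by simp)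
    have u1 : u 1 ≫ RedSub.cellMap D e e' = r⁻¹ * (d ≫ ((y₀ ≫ RedSub.cellMap D e e') * (y₁ ≫ RedSub.cellMap D e e'))) :=
      (hu 1).trans (by simp [MonObj.comp_mul, GrpObj.comp_inv])
    have u2 : u 2 ≫ RedSub.cellMap D e e' = (d ≫ x₀ ≫ RedSub.cellMap D e e') * r :=
      (hu 2).trans (by simp [MonObj.comp_mul])
    have e1 := hf W' (d ≫ x₀) (u 0) (u 2) (by rw [u2, u0, Category.assoc])
    have e2 := prod_eq_prod f hf (u 0) (u 1) (d ≫ y₀) (d ≫ y₁) (by
      rw [u0, u1, mul_inv_cancel_left, MonObj.comp_mul, Category.assoc, Category.assoc])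
    rw [← Category.assoc, MonObj.comp_mul, MonObj.comp_mul, MonObj.comp_mul, MonObj.comp_mul, _root_.mul_assoc,
      show (d ≫ x₀ ≫ RedSub.cellMap D e e') * ((d ≫ y₀ ≫ RedSub.cellMap D e e') * (d ≫ y₁ ≫ RedSub.cellMap D e e')) =
        (u 2 ≫ RedSub.cellMap D e e') * (u 1 ≫ RedSub.cellMap D e e') by
        rw [u2, u1, MonObj.comp_mul]; group, hprod, e1, _root_.mul_assoc, e2]
    simp only [Category.assoc, _root_.mul_assoc]
  have hmon : IsMonHom g := by
    have hpt : ∀ (Y : Over S) (a b : Y ⟶ G), (a * b) ≫ g = (a ≫ g) * (b ≫ g) := fun Y a b => by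
      obtain ⟨W, q, p, hq, hpq⟩ := hcov b
      refine RankOne.eq_of_epi (G := H) hq ?_
      rw [← Category.assoc, MonObj.comp_mul, MonObj.comp_mul, ← Category.assoc q b, ← hpq, Category.assoc p, hcg,
        ← Category.assoc q a, hc, MonObj.comp_mul, ← Category.assoc p, ← Category.assoc p, ← _root_.mul_assoc,
        hstep, hstep]
      simp only [φ, MonObj.comp_mul, Category.assoc, _root_.mul_assoc]
    exact isMonHom_of_points g hpt
  refine ⟨g, ⟨hmon, hcell⟩, fun g' ⟨hg', hg''⟩ => ?_⟩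
  haveI := hg'
  refine RankOne.eq_of_epi (G := H) hepi ?_
  rw [hcg, hc, MonObj.mul_comp _ _ g', Category.assoc, Category.assoc, hg'']

end Groth.Agent.H82.Weyl
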