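import Groth.Agent.H82.Weyl.Unique

/-!
# The centralizer of a singular cocharacter is generated by the torus and a pair of root groups
-/

set_option autoImplicit false
set_option linter.style.haveILetI false
set_option linter.unusedSectionVars false
universe u

open CategoryTheory MonoidalCategory CartesianMonoidalCategory MonObj GrpObj AlgebraicGeometry
open Groth.Agent.Lib.RedPts Groth.Agent.H82.BigCell Groth.Agent.H82.Contract
open Groth.Agent.H82.RankOne (P P_eq P_zero P_comp)

namespace Groth.Agent.H82.Weyl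

variable {S : Scheme.{u}} {G : Over S} [GrpObj G]

theorem exists_singular_functional (D : Red.SplitRed G) [D.P.IsReduced] (j : D.idx) :
    ∃ l : D.M →+ ℤ, l (D.P.root j) = 0 ∧ ∀ c, c ≠ j → c ≠ D.P.reflectionPerm j j → l (D.P.root c) ≠ 0 := by
  classical
  let v : {c : D.idx // c ≠ j ∧ c ≠ D.P.reflectionPerm j j} → D.M :=
    fun c => (2 : ℤ) • D.P.root c.1 - D.P.pairing c.1 j • D.P.root j
  obtain ⟨l, hl⟩ := exists_functional_option v fun c h0 => by
    have hdep : ¬LinearIndependent ℤ ![D.P.root c.1, D.P.root j] := fun h => by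
      have := (LinearIndependent.pair_iff.1 h (2 : ℤ) (-D.P.pairing c.1 j) (by rw [neg_smul, ← sub_eq_add_neg]; exact h0)).1
      omega
    rcases RootPairing.IsReduced.eq_or_eq_neg (P := D.P) c.1 j hdep with h | h
    · exact c.2.1 (D.P.root.injective h)
    · refine c.2.2 (D.P.root.injective (h.trans ?_))
      rw [D.P.root_reflectionPerm, D.P.reflection_apply_self]
  refine ⟨l.comp ((2 : ℤ) • LinearMap.id - (D.P.coroot' j).smulRight (D.P.root j)).toAddMonoidHom, ?_, fun c h1 h2 => ?_⟩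
  · simp [D.P.root_coroot'_eq_pairing]
  · have := hl ⟨c, h1, h2⟩
    simpa [v, D.P.root_coroot'_eq_pairing] using this

variable {D : Red.SplitRed G}

theorem prodPts_snoc {X : Over S} : ∀ {k : ℕ} (a : Fin k → (X ⟶ G)) (b : X ⟶ G),
    prodPts (k + 1) (Fin.snoc (α := fun _ => X ⟶ G) a b) = prodPts k a * b
  | 0, a, b => by simp [prodPts_succ, Fin.snoc]
  | k + 1, a, b => by
    rw [prodPts_succ (n := k + 1), prodPts_succ a, _root_.mul_assoc, ← prodPts_snoc (fun i => a i.succ) b]
    refine congrArg₂ (· * ·) (by simp [Fin.snoc]) (congrArg _ (funext fun i => ?_))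
    refine Fin.lastCases ?_ (fun i => ?_) i
    · rw [Fin.snoc_last, Fin.succ_last, Fin.snoc_last]
    · rw [Fin.snoc_castSucc, ← Fin.castSucc_succ, Fin.snoc_castSucc]

/-- A point commuting with a cocharacter singular exactly along `j` is, flat locally, a product of torus and
`±j` root elements. -/
theorem exists_rankOne {j j' : D.idx} (hj' : D.P.root j' = -D.P.root j) {lam : D.M →+ ℤ}
    (h0 : lam (D.P.root j) = 0) (hne : ∀ c, c ≠ j → c ≠ j' → lam (D.P.root c) ≠ 0)
    {X : Over S} {g : X ⟶ G} (hg : Commutes (gcochar D lam) g) :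
    ∃ (X' : Over S) (c : X' ⟶ X) (a a' b b' : X' ⟶ Red.Ga S) (t t' : X' ⟶ D.T), Epi c.left ∧
      c ≫ g = ((a' ≫ D.u j') * ((t' ≫ D.i) * (b' ≫ D.u j))) * ((a ≫ D.u j') * ((t ≫ D.i) * (b ≫ D.u j)))⁻¹ := by
  classical
  haveI := isAffineHom D
  let A := {c : D.idx // lam (D.P.root c) < 0}
  let B := {c : D.idx // 0 < lam (D.P.root c)}
  let d : Fin (Fintype.card A) → D.idx := fun k => ((Fintype.equivFin A).symm k).1
  let d' : Fin (Fintype.card B) → D.idx := fun k => ((Fintype.equivFin B).symm k).1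
  have hd : ∀ k, lam (D.P.root (d k)) < 0 := fun k => ((Fintype.equivFin A).symm k).2
  have hd' : ∀ k, 0 < lam (D.P.root (d' k)) := fun k => ((Fintype.equivFin B).symm k).2
  have h0' : lam (D.P.root j') = 0 := by rw [hj', map_neg, h0, neg_zero]
  let N : ℤ := 1 + ∑ c, |D.P.pairing c j|
  let l : D.M →+ ℤ := N • lam + (D.P.coroot' j).toAddMonoidHom
  have hN : ∀ c, |D.P.pairing c j| < N := fun c => by
    have := Finset.single_le_sum (fun c _ => abs_nonneg (D.P.pairing c j)) (Finset.mem_univ c)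
    simp only [N]; omega
  have hl : ∀ c, l (D.P.root c) = N * lam (D.P.root c) + D.P.pairing c j := fun c => by
    simp [l, D.P.root_coroot'_eq_pairing]
  have hlneg : ∀ c, lam (D.P.root c) < 0 → l (D.P.root c) < 0 := fun c h => by
    rw [hl]; nlinarith [hN c, le_abs_self (D.P.pairing c j), abs_nonneg (D.P.pairing c j)]
  have hlpos : ∀ c, 0 < lam (D.P.root c) → 0 < l (D.P.root c) := fun c h => by
    rw [hl]; nlinarith [hN c, neg_abs_le (D.P.pairing c j), abs_nonneg (D.P.pairing c j)]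
  have hlj : l (D.P.root j) = 2 := by rw [hl, h0, mul_zero, zero_add, D.P.pairing_same]
  have hlj' : l (D.P.root j') = -2 := by rw [hj', map_neg, hlj]
  let e : Fin (Fintype.card A + 1) → D.idx := Fin.snoc (α := fun _ => D.idx) d j'
  let e' : Fin (Fintype.card B + 1) → D.idx := Fin.cons j d'
  have hjj : j ≠ j' := fun h => by
    have h1 := hlj'
    rw [← h, hlj] at h1
    omega
  have hdinj : Function.Injective d := Subtype.val_injective.comp (Equiv.injective _)
  have hd'inj : Function.Injective d' := Subtype.val_injective.comp (Equiv.injective _)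
  have he : ∀ k, l (D.P.root (e k)) < 0 := fun k => by
    refine Fin.lastCases ?_ (fun i => ?_) k
    · simp [e, hlj']
    · simpa [e] using hlneg _ (hd i)
  have he' : ∀ k, 0 < l (D.P.root (e' k)) := fun k => by
    refine Fin.cases ?_ (fun i => ?_) k
    · simp [e', hlj]
    · simpa [e'] using hlpos _ (hd' i)
  have hinj : Function.Injective e := Fin.snoc_injective_iff.2 ⟨hdinj, fun ⟨i, hi⟩ => by
    have := hd i; rw [hi, h0'] at this; exact lt_irrefl _ this⟩
  have hinj' : Function.Injective e' := Fin.cons_injective_iff.2 ⟨fun ⟨i, hi⟩ => by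
    have := hd' i; rw [hi, h0] at this; exact lt_irrefl _ this, hd'inj⟩
  have hcard : Fintype.card A + 1 + (Fintype.card B + 1) = Fintype.card D.idx := by
    rw [show Fintype.card A + 1 + (Fintype.card B + 1) = Fintype.card A + Fintype.card B + Fintype.card (Fin 2) by
      rw [Fintype.card_fin]; omega, ← Fintype.card_sum, ← Fintype.card_sum]
    refine Fintype.card_of_bijective (f := Sum.elim (Sum.elim Subtype.val Subtype.val) ![j, j'])
      ⟨Function.Injective.sumElim (Subtype.val_injective.sumElim Subtype.val_injective fun a c h => ?_) ?_ ?_, fun c => ?_⟩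
    · have h1 := a.2
      rw [h] at h1
      exact absurd c.2 (not_lt.2 h1.le)
    · intro x y h
      fin_cases x <;> fin_cases y <;> simp at h ⊢
      · exact absurd h hjj
      · exact absurd h.symm hjj
    · intro x y h
      have h2 : lam (D.P.root (![j, j'] y)) = 0 := by fin_cases y <;> simp [h0, h0']
      rw [← h] at h2
      rcases x with x | x
      · exact absurd h2 (ne_of_lt x.2)
      · exact absurd h2 (ne_of_gt x.2)
    · rcases eq_or_ne c j with rfl | h1
      · exact ⟨Sum.inr 0, rfl⟩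
      rcases eq_or_ne c j' with rfl | h2
      · exact ⟨Sum.inr 1, rfl⟩
      rcases lt_or_gt_of_ne (hne c h1 h2) with h | h
      · exact ⟨Sum.inl (Sum.inl ⟨c, h⟩), rfl⟩
      · exact ⟨Sum.inl (Sum.inr ⟨c, h⟩), rfl⟩
  haveI := isOpenImmersion_cellMap (l := l) hinj hinj' he he' hcard
  obtain ⟨X', c, z, z', hc, -, hz⟩ := exists_translate (e := e) (e' := e') g
  have hpn : ∀ w : X' ⟶ RedSub.pow (Red.Ga S) (Fintype.card A + 1),
      ∃ (p : X' ⟶ G) (a : X' ⟶ Red.Ga S), IsLimPt (gcochar D lam)⁻¹ p 1 ∧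
        (w ≫ RedSub.prodMap (Red.Ga S) _ fun k => D.u (e k)) = p * (a ≫ D.u j') := fun w => by
    refine ⟨tuple _ (fun i => w ≫ proj _ (Fin.castSucc i)) ≫ RedSub.prodMap (Red.Ga S) _ fun k => D.u (d k),
      w ≫ proj _ (Fin.last _), isLimPt_neg hd _, ?_⟩
    rw [comp_prodMap, comp_prodMap, ← prodPts_snoc]
    refine congrArg _ (funext fun k => ?_)
    refine Fin.lastCases ?_ (fun i => ?_) k
    · simp [e]
    · simp only [e, Fin.snoc_castSucc]
      rw [← Category.assoc, ← Category.assoc, tuple_proj]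
  have hpp : ∀ w : X' ⟶ RedSub.pow (Red.Ga S) (Fintype.card B + 1),
      ∃ (p : X' ⟶ G) (b : X' ⟶ Red.Ga S), IsLimPt (gcochar D lam) p 1 ∧
        (w ≫ RedSub.prodMap (Red.Ga S) _ fun k => D.u (e' k)) = (b ≫ D.u j) * p := fun w => by
    refine ⟨tuple _ (fun i => w ≫ proj _ (Fin.succ i)) ≫ RedSub.prodMap (Red.Ga S) _ fun k => D.u (d' k),
      w ≫ proj _ 0, isLimPt_pos hd' _, ?_⟩
    rw [comp_prodMap, comp_prodMap, prodPts_succ]
    refine congrArg₂ (· * ·) (by simp [e']) (congrArg _ (funext fun i => ?_))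
    simp only [e', Fin.cons_succ]
    rw [← Category.assoc, ← Category.assoc, tuple_proj]
  obtain ⟨Y₀, a, hY₀, ea⟩ := hpn (z ≫ fst _ _)
  obtain ⟨X₀, b, hX₀, eb⟩ := hpp (z ≫ snd _ _ ≫ snd _ _)
  obtain ⟨Y₁, a', hY₁, ea'⟩ := hpn (z' ≫ fst _ _)
  obtain ⟨X₁, b', hX₁, eb'⟩ := hpp (z' ≫ snd _ _ ≫ snd _ _)
  set t := z ≫ snd _ _ ≫ fst _ _
  set t' := z' ≫ snd _ _ ≫ fst _ _
  refine ⟨X', c, a, a', b, b', t, t', hc, ?_⟩
  have hz₀ := (congrArg ((c ≫ g) * ·) (comp_cellMap e' z)).symm.trans (hz.trans (comp_cellMap e' z'))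
  rw [ea, eb, ea', eb'] at hz₀
  have hg' := hg.comp c
  have hfix : ∀ (k : D.idx), lam (D.P.root k) = 0 → ∀ (x : X' ⟶ Red.Ga S), Commutes (gcochar D lam) (x ≫ D.u k) := by
    intro k hk x W f w
    obtain ⟨s, rfl⟩ : ∃ s, w = Gm.gmPt s := ⟨(Gm.isUnit_gmFn w).unit, RankOne.gmPt_eq w (by simp)⟩
    have h1 := isRootPts D k (Gm.gmPt s ≫ cochar D lam) (Red.gaFn (f ≫ x))
    rw [gmFn_cochar, hk, zpow_zero, Units.val_one, _root_.one_mul, ← P_eq, Category.assoc, Category.assoc] at h1
    exact h1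
  have hcmul : ∀ {p q : X' ⟶ G}, Commutes (gcochar D lam) p → Commutes (gcochar D lam) q →
      Commutes (gcochar D lam) (p * q) := fun {p q} hp hq W f w => by
    rw [MonObj.comp_mul]
    exact (Commute.mul_right (hp W f w) (hq W f w)).eq
  have hct : ∀ s : X' ⟶ D.T, Commutes (gcochar D lam) (s ≫ D.i) := fun s W f w => by
    rw [← Category.assoc w, ← Category.assoc f, ← MonObj.mul_comp, ← MonObj.mul_comp, torus_comm D]
  set M₀ := (a ≫ D.u j') * ((t ≫ D.i) * (b ≫ D.u j))
  set M₁ := (a' ≫ D.u j') * ((t' ≫ D.i) * (b' ≫ D.u j))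
  have hM₀ : Commutes (gcochar D lam) M₀ := hcmul (hfix j' h0' a) (hcmul (hct t) (hfix j h0 b))
  have hM₁ : Commutes (gcochar D lam) M₁ := hcmul (hfix j' h0' a') (hcmul (hct t') (hfix j h0 b'))
  have hgY : IsLimPt (gcochar D lam)⁻¹ ((c ≫ g) * Y₀ * (c ≫ g)⁻¹) 1 :=
    isLimPt_conj (fun W f w => by
      rw [GrpObj.comp_inv, ← (Commute.inv_left (show Commute (w ≫ gcochar D lam) (f ≫ c ≫ g) from hg' W f w)).eq,
        mul_inv_cancel_right]) hY₀
  have h := (factors_unique (c := gcochar D lam) hgY hY₁ (isLimPt_of_commute _ (hcmul hg' hM₀))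
    (isLimPt_of_commute _ hM₁) hX₀ hX₁ (by
      calc _ = (c ≫ g) * ((Y₀ * (a ≫ D.u j')) * ((t ≫ D.i) * ((b ≫ D.u j) * X₀))) := by simp only [M₀]; group
        _ = _ := hz₀
        _ = _ := by simp only [M₁, t']; group)).2.1
  rw [← h, mul_inv_cancel_right]

end Groth.Agent.H82.Weyl
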