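import Mathlib.LinearAlgebra.RootSystem.Defs
import Mathlib.LinearAlgebra.RootSystem.IsValuedIn

/-!
# Products of reflections moving one regular functional to another
-/

set_option autoImplicit false

namespace Groth.Agent.H82.Weyl

variable {idx M N : Type*} [AddCommGroup M] [AddCommGroup N] (P : RootPairing idx ℤ M N)

/-- The product of a word of reflections. -/
noncomputable def word (L : List idx) : M ≃ₗ[ℤ] M := (L.map fun a => P.reflection a).prod

@[simp] theorem word_nil : word P [] = 1 := rfl

@[simp] theorem word_cons (a : idx) (L : List idx) : word P (a :: L) = P.reflection a * word P L := by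
  simp [word]

theorem word_append (L L' : List idx) : word P (L ++ L') = word P L * word P L' := by
  simp [word]

theorem word_reverse (L : List idx) : word P L.reverse = (word P L)⁻¹ := by
  induction L with
  | nil => simp
  | cons a L ih =>
    rw [List.reverse_cons, word_append, ih, word_cons, word_cons, word_nil, mul_one, mul_inv_rev,
      P.reflection_inv]

/-- The permutation of the roots induced by a word. -/
noncomputable def perm (L : List idx) : Equiv.Perm idx := (L.map fun a => P.reflectionPerm a).prod

theorem word_root (L : List idx) (c : idx) : word P L (P.root c) = P.root (perm P L c) := by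
  induction L with
  | nil => simp [perm]
  | cons a L ih =>
    rw [word_cons, LinearEquiv.mul_apply, ih, ← P.root_reflectionPerm]
    simp [perm]

variable [Fintype idx]

theorem sum_pairing (b : idx) :
    2 • ∑ c, P.pairing c b • P.root c = (∑ c, P.pairing c b * P.pairing c b) • P.root b := by
  have h : ∑ c, P.pairing c b • P.root c = ∑ c, (-P.pairing c b) • (P.root c - P.pairing c b • P.root b) := by
    rw [← Equiv.sum_comp (P.reflectionPerm b) fun c => P.pairing c b • P.root c]
    refine Finset.sum_congr rfl fun c _ => ?_
    rw [← P.pairing_reflectionPerm, P.pairing_reflectionPerm_self_right, P.root_reflectionPerm, P.reflection_apply, P.root_coroot'_eq_pairing]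
  have h2 : ∀ c, (-P.pairing c b) • (P.root c - P.pairing c b • P.root b) =
      -(P.pairing c b • P.root c) + (P.pairing c b * P.pairing c b) • P.root b := fun c => by
    rw [smul_sub, neg_smul, neg_smul, smul_smul, sub_neg_eq_add]
  simp only [h2, Finset.sum_add_distrib, Finset.sum_neg_distrib, ← Finset.sum_smul] at h
  rw [two_nsmul]
  nth_rewrite 2 [h]
  abel

theorem sum_sq_pos (b : idx) : 0 < ∑ c, P.pairing c b * P.pairing c b :=
  lt_of_lt_of_le (by rw [P.pairing_same]; norm_num)
    (Finset.single_le_sum (f := fun c => P.pairing c b * P.pairing c b) (fun c _ => mul_self_nonneg _)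
      (Finset.mem_univ b))

/-- Some product of reflections carries the positive roots of `l` to those of `l'`. -/
theorem exists_word (l l' : M →+ ℤ) (hl : ∀ a, l (P.root a) ≠ 0) (hl' : ∀ a, l' (P.root a) ≠ 0) :
    ∃ L : List idx, ∀ a, (0 < l (P.root a) ↔ 0 < l' (word P L (P.root a))) := by
  classical
  let x : M := ∑ c, l (P.root c) • P.root c
  let f : Equiv.Perm idx → ℤ := fun π => ∑ c, l (P.root c) * l' (P.root (π c))
  have hf : ∀ L, f (perm P L) = l' (word P L x) := fun L => by
    simp only [x, f, map_sum, map_zsmul, word_root, smul_eq_mul]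
  have hne : (Finset.univ.filter fun π => ∃ L, perm P L = π).Nonempty :=
    ⟨1, Finset.mem_filter.2 ⟨Finset.mem_univ _, [], rfl⟩⟩
  obtain ⟨π, hπ, hmax⟩ := Finset.exists_max_image _ f hne
  obtain ⟨L, rfl⟩ := (Finset.mem_filter.1 hπ).2
  refine ⟨L, ?_⟩
  have key : ∀ b, 0 < l (P.root b) → 0 < l' (word P L (P.root b)) := fun b hb => by
    have h1 := hmax (perm P (L ++ [b])) (Finset.mem_filter.2 ⟨Finset.mem_univ _, _, rfl⟩)
    rw [hf, hf, word_append, word_cons, word_nil, mul_one, LinearEquiv.mul_apply, P.reflection_apply,
      map_sub, map_sub, map_zsmul, map_zsmul, smul_eq_mul, sub_le_self_iff] at h1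
    have hx : 2 * P.coroot' b x = (∑ c, P.pairing c b * P.pairing c b) * l (P.root b) := by
      have h2 := congrArg l (sum_pairing P b)
      rw [map_nsmul, map_zsmul, map_sum] at h2
      simp only [map_zsmul, smul_eq_mul, nsmul_eq_mul, Nat.cast_ofNat] at h2
      rw [← h2, map_sum]
      refine congrArg (2 * ·) (Finset.sum_congr rfl fun c _ => ?_)
      rw [map_zsmul, P.root_coroot'_eq_pairing, smul_eq_mul, mul_comm]
    have hpos : 0 < P.coroot' b x := by
      have := mul_pos (sum_sq_pos P b) hb
      omega
    exact lt_of_le_of_ne (nonneg_of_mul_nonneg_right h1 hpos) (by rw [word_root]; exact (hl' _).symm)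
  refine fun a => ⟨key a, fun h => ?_⟩
  rcases lt_or_gt_of_ne (hl a) with hn | hp
  · have h1 := key (P.reflectionPerm a a)
    simp only [P.root_reflectionPerm, P.reflection_apply_self, map_neg] at h1
    omega
  · exact hp

end Groth.Agent.H82.Weyl
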