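import Mathlib.LinearAlgebra.RootSystem.Base
import Groth.Agent.H82.Weyl.Comb

/-!
# A root pairing with a base is reduced
-/

set_option autoImplicit false

namespace Groth.Agent.H82.Weyl

variable {idx M N : Type*} [AddCommGroup M] [AddCommGroup N] [Finite idx] {P : RootPairing idx ℤ M N}
  [IsAddTorsionFree M] [IsAddTorsionFree N] (b : P.Base)

theorem coeff_unique {f g : idx → ℤ}
    (h : ∑ j ∈ b.support, f j • P.root j = ∑ j ∈ b.support, g j • P.root j) {j : idx} (hj : j ∈ b.support) :
    f j = g j :=
  (linearIndepOn_finset_iffₛ.1 b.linearIndepOn_root) f g h j hj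

theorem eq_of_multiple {i j : idx} (hj : j ∈ b.support) {t : ℤ} (h : P.root i = t • P.root j) :
    t = 1 ∨ t = -1 :=
  b.eq_one_or_neg_one_of_mem_support_of_smul_mem j hj t ⟨i, h⟩

theorem exists_word_simple_pos [P.IsCrystallographic] {i : idx} (hi : b.IsPos i) :
    ∃ L : List idx, (∀ a ∈ L, a ∈ b.support) ∧ ∃ j ∈ b.support, word P L (P.root i) = P.root j := by
  induction hN : (b.height i).toNat using Nat.strong_induction_on generalizing i with
  | _ N ih =>
    obtain ⟨j, hj, hp⟩ := hi.exists_mem_support_pos_pairingIn
    rw [P.zero_lt_pairingIn_iff'] at hp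
    have hp' : 0 < P.pairing i j := by
      rw [← P.algebraMap_pairingIn ℤ i j]; simpa using hp
    have hk : P.root (P.reflectionPerm j i) = P.root i - P.pairing i j • P.root j := by
      rw [P.root_reflectionPerm, P.reflection_apply, P.root_coroot'_eq_pairing]
    rcases eq_or_ne i j with rfl | hij
    · exact ⟨[], by simp, i, hj, by simp⟩
    by_cases hkp : b.IsPos (P.reflectionPerm j i)
    · have hh : b.height (P.reflectionPerm j i) = b.height i + (-P.pairing i j) • b.height j :=
        b.height_add_zsmul (by rw [hk, neg_smul, sub_eq_add_neg])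
      rw [RootPairing.Base.height_one_of_mem_support hj, smul_eq_mul, mul_one] at hh
      have h0 : 0 < b.height (P.reflectionPerm j i) := hkp
      obtain ⟨L, hL, a, ha, hLa⟩ := ih _ (by omega) hkp rfl
      refine ⟨L ++ [j], fun c hc => ?_, a, ha, ?_⟩
      · rcases List.mem_append.1 hc with h | h
        · exact hL c h
        · exact List.mem_singleton.1 h ▸ hj
      · rw [word_append, LinearEquiv.mul_apply, ← hLa]
        rw [word_cons, word_nil, mul_one, ← P.root_reflectionPerm]
    · obtain ⟨f, -, hf₁, hf₂⟩ := b.exists_root_eq_sum_int i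
      obtain ⟨g, -, hg₁, hg₂⟩ := b.exists_root_eq_sum_int (P.reflectionPerm j i)
      classical
      have hfpos : 0 < f := hf₁.resolve_right fun hf => by
        have h1 : b.height i ≤ 0 := by
          rw [b.height_eq_sum hf₂]; exact Finset.sum_nonpos fun c _ => hf.le c
        exact absurd hi (not_lt.2 h1)
      have hgneg : g < 0 := hg₁.resolve_left fun hg => hkp <| by
        rw [RootPairing.Base.isPos_iff', b.height_eq_sum hg₂]
        exact Finset.sum_nonneg fun c _ => hg.le c
      have hgf : ∀ c ∈ b.support, g c = f c - if c = j then P.pairing i j else 0 := fun c hc => by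
        refine coeff_unique b (g := fun c => f c - if c = j then P.pairing i j else 0) ?_ hc
        simp only [sub_smul, Finset.sum_sub_distrib, ← hf₂, ← hg₂, hk, ite_smul, zero_smul,
          Finset.sum_ite_eq', hj, if_true]
      have hzero : ∀ c ∈ b.support, c ≠ j → f c = 0 := fun c hc hcj => by
        have h1 : g c = f c := by simpa [hcj] using hgf c hc
        have h2 : g c ≤ 0 := hgneg.le c
        have h3 : 0 ≤ f c := hfpos.le c
        omega
      rw [Finset.sum_eq_single_of_mem j hj (fun c hc hcj => by rw [hzero c hc hcj, zero_smul])] at hf₂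
      rcases eq_of_multiple b hj hf₂ with h | h
      · exact absurd (P.root.injective (by rw [hf₂, h, one_smul])) hij
      · have := hfpos.le j
        simp [h] at this

theorem exists_word_simple [P.IsCrystallographic] (i : idx) :
    ∃ L : List idx, ∃ j ∈ b.support, word P L (P.root i) = P.root j := by
  rcases RootPairing.Base.IsPos.or_neg b i with hi | hi
  · obtain ⟨L, -, j, hj, h⟩ := exists_word_simple_pos b hi
    exact ⟨L, j, hj, h⟩
  · obtain ⟨L, -, j, hj, h⟩ := exists_word_simple_pos b hi
    refine ⟨L ++ [i], j, hj, ?_⟩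
    rw [word_append, LinearEquiv.mul_apply, ← h]
    rw [word_cons, word_nil, mul_one, ← P.root_reflectionPerm]
    rfl

theorem isReduced_of_base [P.IsCrystallographic] (b : P.Base) : P.IsReduced := by
  classical
  refine ⟨fun a c hdep => ?_⟩
  obtain ⟨L, j, hj, hL⟩ := exists_word_simple b a
  obtain ⟨s, t, hst, hne⟩ : ∃ s t : ℤ, s • P.root a + t • P.root c = 0 ∧ (s ≠ 0 ∨ t ≠ 0) := by
    rw [LinearIndependent.pair_iff] at hdep
    push Not at hdep
    obtain ⟨s, t, h1, h2⟩ := hdep
    exact ⟨s, t, h1, (Classical.em (s = 0)).elim (fun h => Or.inr (h2 h)) Or.inl⟩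
  have h1 : s • P.root j + t • P.root (perm P L c) = 0 := by
    rw [← hL, ← word_root, ← map_zsmul (word P L), ← map_zsmul (word P L), ← map_add, hst, map_zero]
  have ht : t ≠ 0 := fun ht => by
    rw [ht, zero_smul, add_zero] at hst
    exact (smul_ne_zero (hne.resolve_right (not_not.2 ht)) (P.ne_zero a)) hst
  obtain ⟨f, -, -, hf⟩ := b.exists_root_eq_sum_int (perm P L c)
  have h2 : ∀ l ∈ b.support, t * f l + (if l = j then s else 0) = 0 := fun l hl => by
    refine coeff_unique b (f := fun l => t * f l + if l = j then s else 0) (g := fun _ => 0) ?_ hl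
    simp only [add_smul, mul_smul, Finset.sum_add_distrib, ← Finset.smul_sum, ← hf, ite_smul, zero_smul,
      Finset.sum_ite_eq', hj, if_true, Finset.sum_const_zero]
    rw [add_comm, h1]
  rw [Finset.sum_eq_single_of_mem j hj (fun l hl hlj => by
    have := h2 l hl
    rw [if_neg hlj, add_zero, mul_eq_zero] at this
    rw [this.resolve_left ht, zero_smul])] at hf
  rw [← hL, ← word_root, ← map_zsmul (word P L)] at hf
  have h3 := (word P L).injective hf
  rcases eq_of_multiple b hj (i := perm P L c) (t := f j) (by rw [← hL, ← word_root, h3, map_zsmul]) with h | h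
  · left; rw [h3, h, one_smul]
  · right; rw [h3, h, neg_smul, one_smul, neg_neg]

end Groth.Agent.H82.Weyl
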