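import Groth.Agent.H82.Weyl.RootChar
import Groth.Agent.H82.Weyl.BaseReduced

/-!
# Root homomorphisms of a reduced datum are unique up to reparametrization
-/

set_option autoImplicit false
set_option linter.style.haveILetI false
set_option linter.unusedSectionVars false
universe u

open CategoryTheory MonoidalCategory CartesianMonoidalCategory MonObj GrpObj AlgebraicGeometry
open Groth.Agent.Lib.RedPts Groth.Agent.H82.BigCell Groth.Agent.H82.Contract
open Groth.Agent.H82.RankOne (P P_eq P_zero P_comp)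

namespace Groth.Agent.H82.Weyl

variable {S : Scheme.{u}} {G : Over S} [GrpObj G] {D : Red.SplitRed G}

/-- The universal ring data for an element and a torus point. -/
theorem exists_poly_lift {Y W : Over S} [IsAffine Y.left] (c : W ⟶ Y) (a : Γ(W.left, ⊤)) :
    ∃ d : W ⟶ BigCell.ext Y (Polynomial.C : Γ(Y.left, ⊤) →+* Polynomial Γ(Y.left, ⊤)),
      d ≫ extHom Y _ = c ∧ ∀ p, d.left.appTop (fn Y _ p) = p.eval₂ c.left.appTop.hom a := by
  obtain ⟨d, h1, h2⟩ := exists_toExt (Polynomial.C : Γ(Y.left, ⊤) →+* Polynomial Γ(Y.left, ⊤)) c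
    (Polynomial.eval₂RingHom c.left.appTop.hom a) (by ext x; simp)
  exact ⟨d, h1, h2⟩

theorem eq_zero_of_transfer {A B : Type*} [CommRing A] [CommRing B] {R : Type*} [CommRing R] {M : Type*}
    [AddCommGroup M] (g : Polynomial R ≃+* A) (f : AddMonoidAlgebra A M ≃+* B) (E d : A →+* B)
    (hE : ∀ x, E x = f (AddMonoidAlgebra.single 0 x))
    {a α : M} (h : ∀ i : ℕ, i • α ≠ a) {ua uα : B} (hC : ∀ r, d (g (Polynomial.C r)) = E (g (Polynomial.C r)))
    (hX : d (g Polynomial.X) = uα * E (g Polynomial.X))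
    (hua : ua = f (AddMonoidAlgebra.single a 1)) (huα : uα = f (AddMonoidAlgebra.single α 1))
    {q : A} (hq : ua * E q = d q) : q = 0 := by
  classical
  obtain ⟨p, rfl⟩ := g.surjective q
  let ρ : Polynomial R →+* AddMonoidAlgebra A M :=
    Polynomial.eval₂RingHom ((AddMonoidAlgebra.singleZeroRingHom.comp g.toRingHom).comp Polynomial.C)
      (AddMonoidAlgebra.single α 1 * AddMonoidAlgebra.single 0 (g Polynomial.X))
  have hρ : d.comp g.toRingHom = f.toRingHom.comp ρ := by
    refine Polynomial.ringHom_ext (fun r => ?_) ?_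
    · simp [ρ, hC, hE, AddMonoidAlgebra.singleZeroRingHom]
    · simp [ρ, hX, hE, huα, ← map_mul, AddMonoidAlgebra.single_mul_single]
  have hd : d (g p) = f (p.sum fun i r => AddMonoidAlgebra.single (i • α) (g (Polynomial.C r * Polynomial.X ^ i))) := by
    refine (RingHom.congr_fun hρ p).trans (congrArg f ?_)
    change Polynomial.eval₂ _ _ p = _
    rw [Polynomial.eval₂_eq_sum]
    refine Finset.sum_congr rfl fun i _ => ?_
    simp [AddMonoidAlgebra.singleZeroRingHom, AddMonoidAlgebra.single_mul_single, AddMonoidAlgebra.single_pow]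
  rw [hd, hua, hE, ← map_mul] at hq
  have h2 := congrArg (fun q : AddMonoidAlgebra A M => q.coeff a) (f.injective hq)
  simpa [AddMonoidAlgebra.single_mul_single, Polynomial.sum, Finsupp.single_apply, h] using h2

theorem prodPts_single {X : Over S} : ∀ {m : ℕ} {b : Fin m → (X ⟶ G)} (k₀ : Fin m), (∀ k, k ≠ k₀ → b k = 1) →
    prodPts m b = b k₀
  | 0, _, k₀, _ => k₀.elim0
  | m + 1, b, k₀, h => by
    rw [prodPts_succ]
    refine Fin.cases (fun h => ?_) (fun j h => ?_) k₀ h
    · rw [prodPts_one fun k => h k.succ (Fin.succ_ne_zero k), _root_.mul_one]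
    · rw [h 0 (Fin.succ_ne_zero j).symm, _root_.one_mul,
        prodPts_single j fun k hk => h k.succ fun e => hk (Fin.succ_injective _ e)]

/-- A root homomorphism of a reduced datum is determined up to a reparametrization. -/
theorem exists_comp_root [D.P.IsReduced] (v : Red.Ga S ⟶ G) [IsMonHom v] (a : D.idx)
    (hv : IsRootPts D.i (chr D (D.P.root a)) v) : ∃ σ : Red.Ga S ⟶ Red.Ga S, σ ≫ D.u a = v := by
  classical
  haveI := isAffineHom D
  haveI : IsAddTorsionFree D.M := .of_isTorsionFree ℤ D.M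
  obtain ⟨l, hla, hl⟩ : ∃ l : D.M →+ ℤ, 0 < l (D.P.root a) ∧ ∀ c, l (D.P.root c) ≠ 0 := by
    obtain ⟨l₀, hl₀⟩ := exists_regular_functional D
    rcases lt_or_gt_of_ne (hl₀ a) with h | h
    · exact ⟨-l₀, by simpa using h, fun c => by simpa using hl₀ c⟩
    · exact ⟨l₀, h, hl₀⟩
  obtain ⟨n, m, e, e', he, he', -, hinj, ho⟩ := exists_cell hl
  haveI := mono_of_isClosedImmersion _ (mono_prodMap_pos hinj he')
  have hdeg : HasDeg (cochar D l) (chr D (D.P.root a)) ((l (D.P.root a)).toNat : ℤ) := by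
    rw [Int.toNat_of_nonneg hla.le]; exact hasDeg D l _
  obtain ⟨z, hz⟩ := exists_prod_of_isLimPt (e := e) (e' := e') he he'
    (isLimPt_root hv (by omega) hdeg (Red.gaFn (𝟙 (Red.Ga S))))
  have hne : ∀ k, e' k ≠ a → z ≫ proj m k = 1 := fun k hk => by
    refine pt_ext_affine fun j => ?_
    rw [MonObj.comp_one]
    let Y := piece (Red.Ga S) j
    let x : Y ⟶ Red.Ga S := pieceHom (Red.Ga S) j
    haveI : IsAffine Y.left := inferInstanceAs (IsAffine ((Red.Ga S).left.affineCover.X j))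
    let φ : Γ(Y.left, ⊤) →+* Polynomial Γ(Y.left, ⊤) := Polynomial.C
    obtain ⟨t, ht⟩ := exists_univ_torus (D := D) (BigCell.ext Y φ)
    let c := extHom (BigCell.ext Y φ) (AddMonoidAlgebra.singleZeroRingHom :
      Γ((BigCell.ext Y φ).left, ⊤) →+* AddMonoidAlgebra Γ((BigCell.ext Y φ).left, ⊤) D.M)
    let ε : Γ((BigCell.ext Y φ).left, ⊤) := fn Y φ Polynomial.X
    obtain ⟨d, hd0, hd⟩ := exists_poly_lift (c ≫ extHom Y φ)
      (Red.gmFn (t ≫ chr D (D.P.root a)) * c.left.appTop ε)
    have hdX : d.left.appTop ε = Red.gmFn (t ≫ chr D (D.P.root a)) * c.left.appTop ε :=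
      (hd _).trans (Polynomial.eval₂_X _ _)
    let z₁ : BigCell.ext Y φ ⟶ RedSub.pow (Red.Ga S) m := Ga.gaPt ε ≫ z
    have hz₁ : (z₁ ≫ RedSub.prodMap (Red.Ga S) m fun k => D.u (e' k)) = P v ε := by
      rw [Category.assoc, hz, P_comp, ← Ga.gaFn_comp, Category.comp_id, Ga.gaFn_gaPt]
    have h1 := coords_equivariant hv hz₁ c d t hdX k
    have hC : ∀ r, d.left.appTop (fn Y φ (Polynomial.C r)) = c.left.appTop (fn Y φ (Polynomial.C r)) := fun r => by
      rw [show fn Y φ (Polynomial.C r) = (extHom Y φ).left.appTop r from (extHom_fn Y φ r).symm]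
      exact appTop_eq_of_comp_eq hd0 r
    have h2 : Red.gaFn (z₁ ≫ proj m k) = 0 :=
      eq_zero_of_transfer (fn Y φ) (fn _ _) c.left.appTop.hom d.left.appTop.hom (fun y => extHom_fn _ _ y)
        (fun i hi => by
          rcases Nat.lt_or_ge i 2 with h | h
          · interval_cases i
            · exact D.P.ne_zero (e' k) (by rw [← hi, zero_smul])
            · exact hk (D.P.root.injective (by rw [← hi, one_smul]))
          · haveI : i.AtLeastTwo := ⟨h⟩
            exact D.P.nsmul_notMem_range_root (n := i) (i := a) ⟨e' k, hi.symm⟩)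
        hC hdX (ht _) (ht _) h1
    obtain ⟨s, -, hs⟩ := exists_toExt φ (𝟙 Y) (Polynomial.evalRingHom (Red.gaFn x)) (by
      ext r; simp [φ])
    have h3 : s ≫ z₁ = x ≫ z := by
      rw [← Category.assoc]
      refine congrArg (· ≫ z) (Ga.gaFn_injective ?_)
      rw [Ga.gaFn_comp, Ga.gaFn_gaPt]
      exact (hs _).trans (Polynomial.eval_X)
    apply Ga.gaFn_injective
    rw [← Category.assoc, ← h3, Category.assoc, Ga.gaFn_comp, h2, map_zero, Ga.gaFn_one]
  have hv' : Ga.gaPt (Red.gaFn (𝟙 (Red.Ga S))) = 𝟙 (Red.Ga S) := Ga.gaFn_injective (by rw [Ga.gaFn_gaPt])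
  have hzv : (z ≫ RedSub.prodMap (Red.Ga S) m fun k => D.u (e' k)) = v := by
    rw [hz, P, hv', Category.id_comp]
  by_cases hk : ∃ k₀, e' k₀ = a
  · obtain ⟨k₀, rfl⟩ := hk
    refine ⟨z ≫ proj m k₀, ?_⟩
    rw [← hzv, comp_prodMap, prodPts_single k₀ (fun k hk => ?_), Category.assoc]
    rw [← Category.assoc, hne k fun h => hk (hinj h), MonObj.one_comp]
  · refine ⟨1, ?_⟩
    rw [← hzv, comp_prodMap, prodPts_one fun k => ?_, MonObj.one_comp]
    rw [← Category.assoc, hne k fun h => hk ⟨k, h⟩, MonObj.one_comp]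

end Groth.Agent.H82.Weyl
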