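import Groth.Agent.H82.Contract.Commute
import Groth.Agent.H82.Weyl.BaseReduced

/-!
# The commutation formula of two root groups
-/

set_option autoImplicit false
set_option linter.style.haveILetI false
set_option linter.unusedSectionVars false
universe u

open CategoryTheory MonoidalCategory CartesianMonoidalCategory MonObj GrpObj AlgebraicGeometry
open Groth.Agent.Lib.RedPts Groth.Agent.H82.BigCell Groth.Agent.H82.Contract
open Groth.Agent.H82.RankOne (P P_eq P_zero P_comp)

namespace Groth.Agent.H82.Weyl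

variable {S : Scheme.{u}} {G : Over S} [GrpObj G] {D : Red.SplitRed G}

/-- `u_b(y)⁻¹ u_a(x) u_b(y) u_a(x)⁻¹`. -/
noncomputable def cm (a b : D.idx) {X : Over S} (x y : Γ(X.left, ⊤)) : X ⟶ G :=
  (P (D.u b) y)⁻¹ * P (D.u a) x * P (D.u b) y * (P (D.u a) x)⁻¹

theorem cm_comp (a b : D.idx) {X X' : Over S} (c : X' ⟶ X) (x y : Γ(X.left, ⊤)) :
    c ≫ cm a b x y = cm a b (c.left.appTop x) (c.left.appTop y) := by
  simp only [cm, MonObj.comp_mul, GrpObj.comp_inv, P_comp]

theorem cm_zero_left (a b : D.idx) {X : Over S} (y : Γ(X.left, ⊤)) : cm a b (0 : Γ(X.left, ⊤)) y = 1 := by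
  rw [cm, P_zero, inv_one, _root_.mul_one, _root_.mul_one, inv_mul_cancel]

theorem cm_zero_right (a b : D.idx) {X : Over S} (x : Γ(X.left, ⊤)) : cm a b x (0 : Γ(X.left, ⊤)) = 1 := by
  rw [cm, P_zero, inv_one, _root_.one_mul, _root_.mul_one, mul_inv_cancel]

theorem torus_cm (a b : D.idx) {X : Over S} (t : X ⟶ D.T) (x y : Γ(X.left, ⊤)) :
    (t ≫ D.i) * cm a b x y = cm a b (Red.gmFn (t ≫ chr D (D.P.root a)) * x)
      (Red.gmFn (t ≫ chr D (D.P.root b)) * y) * (t ≫ D.i) := by
  have ha := mul_inv_eq_iff_eq_mul.2 (isRootPts D a t x)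
  have hb := mul_inv_eq_iff_eq_mul.2 (isRootPts D b t y)
  refine mul_inv_eq_iff_eq_mul.1 ?_
  rw [cm, cm, ← ha, ← hb]
  group

theorem prodPts_append {X : Over S} : ∀ {n p : ℕ} (a : Fin n → (X ⟶ G)) (b : Fin p → (X ⟶ G)),
    prodPts (n + p) (Fin.append a b) = prodPts n a * prodPts p b := by
  intro n
  induction n with
  | zero =>
    intro p a b
    rw [prodPts_zero, _root_.one_mul]
    have : ∀ (q : ℕ) (h : q = p), prodPts q (b ∘ Fin.cast h) = prodPts p b := by rintro q rfl; rfl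
    rw [show a = Fin.elim0 from funext fun k => k.elim0, Fin.elim0_append, this]
  | succ n ih =>
    intro p a b
    have hcast : ∀ (q q' : ℕ) (h : q = q') (f : Fin q' → (X ⟶ G)), prodPts q (f ∘ Fin.cast h) = prodPts q' f := by
      rintro q q' rfl f; rfl
    rw [← hcast (n + p + 1) (n + 1 + p) (by omega), prodPts_succ, prodPts_succ a, _root_.mul_assoc, ← ih]
    refine congrArg₂ (· * ·) ?_ (congrArg _ (funext fun k => ?_))
    · exact Fin.append_left a b 0
    · refine Fin.addCases (fun i => ?_) (fun i => ?_) k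
      · rw [Fin.append_left]
        exact Fin.append_left a b i.succ
      · rw [Fin.append_right]
        rw [Function.comp_apply]
        refine Eq.trans (congrArg (Fin.append a b) (Fin.ext ?_)) (Fin.append_right a b i)
        simp only [Fin.val_succ, Fin.val_cast, Fin.val_natAdd]
        omega

theorem uniq_coords {m : ℕ} {d : Fin m → D.idx} [Mono (RedSub.prodMap (Red.Ga S) m fun k => D.u (d k))]
    {Y : Over S} (p q : Fin m → Γ(Y.left, ⊤))
    (h : prodPts m (fun k => P (D.u (d k)) (p k)) = prodPts m (fun k => P (D.u (d k)) (q k))) : p = q := by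
  have h1 : ∀ r : Fin m → Γ(Y.left, ⊤), tuple m (fun k => Ga.gaPt (r k)) ≫
      RedSub.prodMap (Red.Ga S) m (fun k => D.u (d k)) = prodPts m fun k => P (D.u (d k)) (r k) := fun r => by
    rw [comp_prodMap]
    refine congrArg _ (funext fun k => ?_)
    rw [← Category.assoc, tuple_proj]
    rfl
  rw [← h1, ← h1, cancel_mono] at h
  funext k
  have h2 := congrArg (fun w => Red.gaFn (w ≫ proj m k)) h
  simpa only [tuple_proj, Ga.gaFn_gaPt] using h2

set_option maxHeartbeats 2000000 in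
/-- The universal commutator has coordinates supported in weights `p a + q b`. -/
theorem exists_support_univ {l : D.M →+ ℤ} {a b : D.idx} (hla : 0 < l (D.P.root a)) (hlb : 0 < l (D.P.root b))
    {n m : ℕ} {e : Fin n → D.idx} {e' : Fin m → D.idx} [IsOpenImmersion (RedSub.cellMap D e e').left]
    (he : ∀ k, l (D.P.root (e k)) < 0) (he' : ∀ k, 0 < l (D.P.root (e' k))) (hinj : Function.Injective e')
    (X : Over S) [IsAffine X.left] :
    ∃ f : Fin m → MvPolynomial (Fin 2) Γ(X.left, ⊤),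
      cm a b (affX X (n := 2) 0) (affX X (n := 2) 1) =
        prodPts m (fun k => P (D.u (e' k)) (fn X MvPolynomial.C (f k))) ∧
      ∀ k d, (f k).coeff d ≠ 0 →
        d 0 ≠ 0 ∧ d 1 ≠ 0 ∧ Finsupp.weight ![D.P.root a, D.P.root b] d = D.P.root (e' k) := by
  classical
  haveI := isAffineHom D
  have hroot : ∀ (c : D.idx), 0 < l (D.P.root c) → ∀ (x : Γ((aff X 2).left, ⊤)),
      IsLimPt (gcochar D l) (P (D.u c) x) 1 := fun c hc x => by
    refine isLimPt_root (d := (l (D.P.root c)).toNat) (isRootPts D c) (by omega) ?_ x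
    rw [Int.toNat_of_nonneg hc.le]
    exact hasDeg D l _
  have hlim : IsLimPt (gcochar D l) (cm a b (affX X (n := 2) 0) (affX X (n := 2) 1)) 1 := by
    have := (((hroot b hlb (affX X 1)).inv.mul (hroot a hla (affX X 0))).mul (hroot b hlb (affX X 1))).mul
      (hroot a hla (affX X 0)).inv
    rwa [inv_one, _root_.one_mul, _root_.one_mul, _root_.one_mul] at this
  obtain ⟨z, hz⟩ := exists_prod_of_isLimPt he he' hlim
  rw [comp_prodMap] at hz
  let φA : Γ(X.left, ⊤) →+* MvPolynomial (Fin 2) Γ(X.left, ⊤) := MvPolynomial.C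
  let F := fn X φA
  let f : Fin m → MvPolynomial (Fin 2) Γ(X.left, ⊤) := fun k => F.symm (Red.gaFn (z ≫ proj m k))
  have hw : cm a b (affX X (n := 2) 0) (affX X (n := 2) 1) = prodPts m fun k => P (D.u (e' k)) (F (f k)) := by
    rw [← hz]
    refine congrArg _ (funext fun k => ?_)
    rw [← Category.assoc, P_eq, F.apply_symm_apply]
  haveI := mono_of_isClosedImmersion _ (mono_prodMap_pos hinj he')
  have hkill : ∀ (k0 : Fin 2) (k : Fin m),
      MvPolynomial.eval₂Hom MvPolynomial.C (Function.update MvPolynomial.X k0 0) (f k) = 0 := by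
    intro k0 k
    obtain ⟨s, -, hs⟩ := exists_toExt φA (extHom X φA)
      (F.toRingHom.comp (MvPolynomial.eval₂Hom MvPolynomial.C (Function.update MvPolynomial.X k0 0))) (by
        refine RingHom.ext fun r => ?_
        rw [RingHom.comp_apply, RingHom.comp_apply, MvPolynomial.eval₂Hom_C]
        exact (extHom_fn X φA r).symm)
    have h1 := congrArg (s ≫ ·) hw
    rw [cm_comp, comp_prodPts, hs, hs] at h1
    simp only [P_comp, hs, RingHom.comp_apply, MvPolynomial.eval₂Hom_X'] at h1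
    have h2 : prodPts m (fun k => P (D.u (e' k)) (0 : Γ((aff X 2).left, ⊤))) = 1 :=
      prodPts_one fun k => P_zero _
    have h3 := uniq_coords _ _ ((h1.symm.trans (by fin_cases k0 <;> simp [cm_zero_left, cm_zero_right])).trans h2.symm)
    exact F.injective (((hs _).symm.trans (congrFun h3 k)).trans (map_zero F).symm)
  let φ' : Γ((aff X 2).left, ⊤) →+* AddMonoidAlgebra Γ((aff X 2).left, ⊤) D.M :=
    AddMonoidAlgebra.singleZeroRingHom
  let Y' := BigCell.ext (aff X 2) φ'
  let Q := fn (aff X 2) φ'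
  let χ : Multiplicative D.M →* Γ(Y'.left, ⊤) :=
    Q.toRingHom.toMonoidHom.comp (AddMonoidAlgebra.of Γ((aff X 2).left, ⊤) D.M)
  let t : Y' ⟶ D.T := Gm.dsPt χ ≫ D.split.inv.hom.hom
  have ht : ∀ c, Red.gmFn (t ≫ chr D (D.P.root c)) = Q (AddMonoidAlgebra.single (D.P.root c) 1) := fun c => by
    simp only [t, chr, Category.assoc]
    rw [← Category.assoc D.split.inv.hom.hom, split_inv_hom, Category.id_comp, Gm.gmFn_chi, Gm.dsFn_dsPt]
    rfl
  let v : Fin 2 → D.M := ![D.P.root a, D.P.root b]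
  obtain ⟨ρ, -, hρ⟩ := exists_toExt φA (extHom (aff X 2) φ' ≫ extHom X φA)
    (Q.toRingHom.comp (grade F.toRingHom v)) (by
      refine RingHom.ext fun r => ?_
      rw [Over.comp_left, Scheme.Hom.comp_appTop, CommRingCat.comp_apply, extHom_fn, extHom_fn,
        RingHom.comp_apply, RingHom.comp_apply, grade, MvPolynomial.eval₂Hom_C]
      rfl)
  have hvar : ∀ j : Fin 2, ρ.left.appTop (F (MvPolynomial.X j)) =
      Q (AddMonoidAlgebra.single (v j) 1) * (extHom (aff X 2) φ').left.appTop (F (MvPolynomial.X j)) := fun j => by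
    rw [hρ, extHom_fn, ← map_mul]
    refine congrArg Q ((MvPolynomial.eval₂Hom_X' _ _ _).trans ?_)
    simp [φ', AddMonoidAlgebra.singleZeroRingHom, AddMonoidAlgebra.single_mul_single]
  have hf : ∀ k, Q (AddMonoidAlgebra.single (D.P.root (e' k)) 1) * (extHom (aff X 2) φ').left.appTop (F (f k)) =
      ρ.left.appTop (F (f k)) := by
    have h1 := torus_cm a b t ((extHom (aff X 2) φ').left.appTop (affX X (n := 2) 0))
      ((extHom (aff X 2) φ').left.appTop (affX X (n := 2) 1))
    have h2 := congrArg (extHom (aff X 2) φ' ≫ ·) hw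
    have h3 := congrArg (ρ ≫ ·) hw
    simp only [cm_comp, comp_prodPts, P_comp] at h2 h3
    rw [ht a, ht b, show Q (AddMonoidAlgebra.single (D.P.root a) 1) * (extHom (aff X 2) φ').left.appTop (affX X (n := 2) 0) = ρ.left.appTop (affX X (n := 2) 0) from (hvar 0).symm,
      show Q (AddMonoidAlgebra.single (D.P.root b) 1) * (extHom (aff X 2) φ').left.appTop (affX X (n := 2) 1) = ρ.left.appTop (affX X (n := 2) 1) from (hvar 1).symm,
      h2, h3] at h1
    rw [mul_prodPts (t ≫ D.i) (b := fun k => P (D.u (e' k))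
      (Red.gmFn (t ≫ chr D (D.P.root (e' k))) * (extHom (aff X 2) φ').left.appTop (F (f k))))
      (fun k => isRootPts D (e' k) t _)] at h1
    intro k
    have h4 := congrFun (uniq_coords _ _ (mul_right_cancel h1)) k
    rwa [ht] at h4
  have hsupp : ∀ k d, (f k).coeff d ≠ 0 → d 0 ≠ 0 ∧ d 1 ≠ 0 ∧ Finsupp.weight v d = D.P.root (e' k) := by
    intro k d hd
    have hd0 : ∀ k0, d k0 ≠ 0 := fun k0 h => hd (by
      rw [← coeff_kill k0 (f k) h, hkill k0 k, MvPolynomial.coeff_zero])
    refine ⟨hd0 0, hd0 1, ?_⟩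
    by_contra hw
    have h1 := hf k
    rw [hρ, extHom_fn, ← map_mul] at h1
    have h2 := Q.injective h1
    rw [show φ' (F (f k)) = AddMonoidAlgebra.single 0 (F (f k)) from rfl, AddMonoidAlgebra.single_mul_single,
      add_zero, _root_.one_mul] at h2
    have h3 := congrArg (fun p => p.coeff (Finsupp.weight v d)) h2
    simp only [AddMonoidAlgebra.coeff_single, coeff_grade, Finsupp.single_apply, if_neg (Ne.symm hw)] at h3
    have h4 := congrArg (MvPolynomial.coeff d) (F.injective (h3.symm.trans (map_zero F).symm))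
    rw [MvPolynomial.coeff_weightedHomogeneousComponent, if_pos rfl, MvPolynomial.coeff_zero] at h4
    exact hd h4
  exact ⟨f, hw, hsupp⟩

/-- The universal commutator is a product of monomial root elements. -/
theorem exists_monomials_univ {l : D.M →+ ℤ} {a b : D.idx} (hla : 0 < l (D.P.root a)) (hlb : 0 < l (D.P.root b))
    {n m : ℕ} {e : Fin n → D.idx} {e' : Fin m → D.idx} [IsOpenImmersion (RedSub.cellMap D e e').left]
    (he : ∀ k, l (D.P.root (e k)) < 0) (he' : ∀ k, 0 < l (D.P.root (e' k))) (hinj : Function.Injective e')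
    (ex : Fin m → Fin 2 →₀ ℕ)
    (hex : ∀ (k : Fin m) (d : Fin 2 →₀ ℕ), d 0 ≠ 0 → d 1 ≠ 0 →
      Finsupp.weight ![D.P.root a, D.P.root b] d = D.P.root (e' k) → d = ex k)
    (X : Over S) [IsAffine X.left] :
    ∃ f : Fin m → MvPolynomial (Fin 2) Γ(X.left, ⊤),
      cm a b (affX X (n := 2) 0) (affX X (n := 2) 1) =
        prodPts m (fun k => P (D.u (e' k)) (fn X MvPolynomial.C (f k))) ∧
      ∀ k, (∀ d, (f k).coeff d ≠ 0 → d 0 ≠ 0 ∧ d 1 ≠ 0 ∧ Finsupp.weight ![D.P.root a, D.P.root b] d = D.P.root (e' k)) ∧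
        f k = MvPolynomial.monomial (ex k) ((f k).coeff (ex k)) := by
  classical
  obtain ⟨f, hw, hsupp⟩ := exists_support_univ hla hlb he he' hinj X
  refine ⟨f, hw, fun k => ⟨hsupp k, MvPolynomial.ext _ _ fun d => ?_⟩⟩
  rw [MvPolynomial.coeff_monomial]
  split_ifs with h
  · rw [← h]
  · by_contra hd
    obtain ⟨h1, h2, h3⟩ := hsupp k d hd
    exact h (hex k d h1 h2 h3).symm

theorem weight_two (a b : D.idx) (d : Fin 2 →₀ ℕ) :
    Finsupp.weight ![D.P.root a, D.P.root b] d = (d 0 : ℤ) • D.P.root a + (d 1 : ℤ) • D.P.root b := by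
  rw [Finsupp.weight_apply, Finsupp.sum_fintype _ _ (fun r => zero_smul ℕ (![D.P.root a, D.P.root b] r)),
    Fin.sum_univ_two, natCast_zsmul, natCast_zsmul]
  rfl

theorem exists_exp_zero : ∃ d : Fin 2 →₀ ℕ, d 0 = 0 ∧ d 1 = 0 := ⟨0, rfl, rfl⟩

set_option maxHeartbeats 2000000 in
/-- The commutation formula, for two roots positive for a functional. -/
theorem commutator_formula_of {l : D.M →+ ℤ} (hl : ∀ d, l (D.P.root d) ≠ 0) (α β : D.idx)
    (hlα : 0 < l (D.P.root α)) (hlβ : 0 < l (D.P.root β)) {n : ℕ} (c : Fin n → D.idx) (i j : Fin n → ℕ)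
    (hc : Function.Injective c) (hdep : (∃ k : Fin n, True) → LinearIndependent ℤ ![D.P.root α, D.P.root β])
    (hij : ∀ k, 1 ≤ i k ∧ 1 ≤ j k ∧ D.P.root (c k) = (i k : ℤ) • D.P.root α + (j k : ℤ) • D.P.root β)
    (hall : ∀ (d : D.idx) (p q : ℕ), 1 ≤ p → 1 ≤ q → D.P.root d = (p : ℤ) • D.P.root α + (q : ℤ) • D.P.root β →
      d ∈ Set.range c) :
    ∃! C : Fin n → Γ(S, ⊤), ∀ (X : Over S) (x y : X ⟶ Red.Ga S) (z : Fin n → (X ⟶ Red.Ga S)),
      (∀ k, Red.gaFn (z k) = X.hom.appTop (C k) * Red.gaFn x ^ (i k) * Red.gaFn y ^ (j k)) →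
        (x ≫ D.u α) * (y ≫ D.u β) * (x ≫ D.u α)⁻¹ =
          (y ≫ D.u β) * (List.ofFn (fun k => z k ≫ D.u (c k))).prod := by
  classical
  haveI := isAffineHom D
  haveI : D.P.IsCrystallographic := ⟨fun i j => ⟨D.P.pairing i j, by simp⟩⟩
  haveI : IsAddTorsionFree D.M := .of_isTorsionFree ℤ D.M
  haveI : IsAddTorsionFree (Module.Dual ℤ D.M) := .of_isTorsionFree ℤ _
  have hlc : ∀ k, 0 < l (D.P.root (c k)) := fun k => by
    obtain ⟨h1, h2, h3⟩ := hij k
    rw [h3, map_add, map_zsmul, map_zsmul, smul_eq_mul, smul_eq_mul]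
    have h1' : (0 : ℤ) < i k := by omega
    have h2' : (0 : ℤ) < j k := by omega
    positivity
  let B := {d : D.idx // 0 < l (D.P.root d) ∧ d ∉ Set.range c}
  let A := {d : D.idx // l (D.P.root d) < 0}
  let d' : Fin (Fintype.card B) → D.idx := fun k => ((Fintype.equivFin B).symm k).1
  let e : Fin (Fintype.card A) → D.idx := fun k => ((Fintype.equivFin A).symm k).1
  let e' : Fin (n + Fintype.card B) → D.idx := Fin.append c d'
  have he : ∀ k, l (D.P.root (e k)) < 0 := fun k => ((Fintype.equivFin A).symm k).2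
  have he' : ∀ k, 0 < l (D.P.root (e' k)) := fun k => by
    refine Fin.addCases (fun q => ?_) (fun q => ?_) k
    · simp only [e', Fin.append_left]; exact hlc q
    · simp only [e', Fin.append_right]; exact ((Fintype.equivFin B).symm q).2.1
  have hinj : Function.Injective e' :=
    Fin.append_injective_iff.2 ⟨hc, Subtype.val_injective.comp (Equiv.injective _), fun q r h =>
      ((Fintype.equivFin B).symm r).2.2 ⟨q, h⟩⟩
  have hcard : Fintype.card A + (n + Fintype.card B) = Fintype.card D.idx := by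
    rw [show Fintype.card A + (n + Fintype.card B) = Fintype.card (A ⊕ (Fin n ⊕ B)) by simp]
    refine Fintype.card_of_bijective (f := Sum.elim Subtype.val (Sum.elim c Subtype.val))
      ⟨Subtype.val_injective.sumElim (hc.sumElim Subtype.val_injective fun q r h => r.2.2 ⟨q, h⟩) fun x y h => ?_,
        fun x => ?_⟩
    · have h2 : 0 < l (D.P.root (Sum.elim c Subtype.val y)) := by
        rcases y with q | r
        · exact hlc q
        · exact r.2.1
      rw [← h] at h2
      exact absurd x.2 (not_lt.2 h2.le)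
    · rcases lt_or_gt_of_ne (hl x) with h | h
      · exact ⟨Sum.inl ⟨x, h⟩, rfl⟩
      · by_cases hx : x ∈ Set.range c
        · exact ⟨Sum.inr (Sum.inl hx.choose), hx.choose_spec⟩
        · exact ⟨Sum.inr (Sum.inr ⟨x, h, hx⟩), rfl⟩
  haveI : IsOpenImmersion (RedSub.cellMap D e e').left :=
    isOpenImmersion_cellMap (l := l) (Subtype.val_injective.comp (Equiv.injective _)) hinj he he' hcard
  haveI := mono_of_isClosedImmersion _ (mono_prodMap_pos hinj he')
  haveI := mono_of_isClosedImmersion _ (mono_prodMap_pos hc hlc)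
  -- exponents
  let ex : Fin (n + Fintype.card B) → Fin 2 →₀ ℕ :=
    Fin.append (fun k => Finsupp.equivFunOnFinite.symm ![i k, j k]) fun _ => 0
  have hex : ∀ (k : Fin (n + Fintype.card B)) (d : Fin 2 →₀ ℕ), d 0 ≠ 0 → d 1 ≠ 0 →
      Finsupp.weight ![D.P.root α, D.P.root β] d = D.P.root (e' k) → d = ex k := by
    intro k d h0 h1 hw
    rw [weight_two] at hw
    obtain ⟨q, hq⟩ := hall (e' k) (d 0) (d 1) (Nat.one_le_iff_ne_zero.2 h0) (Nat.one_le_iff_ne_zero.2 h1) hw.symm
    obtain ⟨q', rfl⟩ : ∃ q' : Fin n, k = Fin.castAdd _ q' := by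
      refine ⟨q, hinj ?_⟩
      rw [← hq]; simp [e']
    simp only [e', Fin.append_left] at hw hq
    have h2 := (hij q').2.2.symm.trans hw.symm
    have hli := LinearIndependent.pair_iff.1 (hdep ⟨q', trivial⟩) ((i q' : ℤ) - d 0) ((j q' : ℤ) - d 1) (by
      rw [sub_smul, sub_smul, sub_add_sub_comm, h2, sub_self])
    simp only [ex, Fin.append_left]
    ext r
    fin_cases r <;> simp <;> omega
  -- coefficients
  have hS : ∀ (X : Over S) (r : Γ(X.left, ⊤)), r = Red.gaFn (Ga.gaPt r) := fun X r => (Ga.gaFn_gaPt r).symm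
  have hlim1 : ∀ (X : Over S) (x y : Γ(X.left, ⊤)), IsLimPt (gcochar D l) (cm α β x y) 1 := fun X x y => by
    have hroot : ∀ (c : D.idx), 0 < l (D.P.root c) → ∀ (x : Γ(X.left, ⊤)),
        IsLimPt (gcochar D l) (P (D.u c) x) 1 := fun c hc x => by
      refine isLimPt_root (d := (l (D.P.root c)).toNat) (isRootPts D c) (by omega) ?_ x
      rw [Int.toNat_of_nonneg hc.le]
      exact hasDeg D l _
    have := (((hroot β hlβ y).inv.mul (hroot α hlα x)).mul (hroot β hlβ y)).mul (hroot α hlα x).inv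
    rwa [inv_one, _root_.one_mul, _root_.one_mul, _root_.one_mul] at this
  obtain ⟨z₁, hz₁⟩ := exists_prod_of_isLimPt (e := e) (e' := e') he he'
    (hlim1 (𝟙_ (Over S)) 1 1)
  rw [comp_prodMap] at hz₁
  let C : Fin n → Γ(S, ⊤) := fun k => Red.gaFn (z₁ ≫ proj _ (Fin.castAdd _ k))
  have key : ∀ (X : Over S) (x y : Γ(X.left, ⊤)),
      cm α β x y = prodPts n fun k => P (D.u (c k)) (X.hom.appTop (C k) * x ^ i k * y ^ j k) := by
    intro X x y
    refine pt_ext_affine fun q => ?_
    let Y := piece X q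
    let π : Y ⟶ X := pieceHom X q
    haveI : IsAffine Y.left := inferInstanceAs (IsAffine (X.left.affineCover.X q))
    obtain ⟨f, hf, hmono⟩ := exists_monomials_univ hlα hlβ he he' hinj ex hex Y
    have hev : ∀ (x' y' : Γ(Y.left, ⊤)), cm α β x' y' =
        prodPts _ fun k => P (D.u (e' k)) ((f k).coeff (ex k) * (x' ^ (ex k) 0 * y' ^ (ex k) 1)) := by
      intro x' y'
      obtain ⟨d, -, hd⟩ := exists_toExt (MvPolynomial.C : Γ(Y.left, ⊤) →+* MvPolynomial (Fin 2) Γ(Y.left, ⊤)) (𝟙 Y)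
        (MvPolynomial.eval₂Hom (RingHom.id _) ![x', y']) (by
          refine RingHom.ext fun r => ?_
          rw [RingHom.comp_apply, MvPolynomial.eval₂Hom_C]
          simp)
      have h := congrArg (d ≫ ·) hf
      simp only [cm_comp, comp_prodPts, P_comp] at h
      rw [hd, hd, MvPolynomial.eval₂Hom_X', MvPolynomial.eval₂Hom_X'] at h
      refine h.trans (congrArg _ (funext fun k => congrArg _ ?_))
      rw [hd]
      conv_lhs => rw [(hmono k).2]
      rw [MvPolynomial.eval₂Hom_monomial, Finsupp.prod_fintype _ _ (fun _ => pow_zero _), Fin.prod_univ_two]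
      rfl
    have h1 : π ≫ toUnit X ≫ cm α β (1 : Γ((𝟙_ (Over S)).left, ⊤)) 1 = cm α β (1 : Γ(Y.left, ⊤)) 1 := by
      rw [← Category.assoc, cm_comp, map_one]
    rw [hev 1 1, ← hz₁, ← Category.assoc, comp_prodPts] at h1
    have h2 := uniq_coords (d := e') (fun k => (π ≫ toUnit X).left.appTop (Red.gaFn (z₁ ≫ proj _ k)))
      (fun k => (f k).coeff (ex k) * ((1 : Γ(Y.left, ⊤)) ^ (ex k) 0 * 1 ^ (ex k) 1)) (by
        refine Eq.trans (congrArg _ (funext fun k => ?_)) h1
        rw [← Category.assoc _ (proj _ k), ← Category.assoc (π ≫ toUnit X) _ (D.u (e' k)), P_eq (D.u (e' k))]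
        simp only [Ga.gaFn_comp])
    have hzero : ∀ r, (f (Fin.natAdd n r)).coeff (ex (Fin.natAdd n r)) = 0 := fun r => by
      by_contra hne
      obtain ⟨h0, -, -⟩ := (hmono _).1 _ hne
      exact h0 (by simp [ex])
    rw [cm_comp, hev, comp_prodPts]
    have hsplit : (fun k => P (D.u (e' k)) ((f k).coeff (ex k) *
        (π.left.appTop x ^ (ex k) 0 * π.left.appTop y ^ (ex k) 1))) =
        Fin.append (fun k => π ≫ P (D.u (c k)) (X.hom.appTop (C k) * x ^ i k * y ^ j k)) fun _ => 1 := by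
      funext k
      refine Fin.addCases (fun r => ?_) (fun r => ?_) k
      · rw [Fin.append_left, P_comp, map_mul, map_mul, map_pow, map_pow]
        have h3 := congrFun h2 (Fin.castAdd _ r)
        simp only [one_pow, _root_.mul_one] at h3
        simp only [e', ex, Fin.append_left] at h3 ⊢
        rw [← h3, Over.comp_left, Scheme.Hom.comp_appTop, CommRingCat.comp_apply]
        simp [C, _root_.mul_assoc]
      · rw [Fin.append_right, hzero r, MulZeroClass.zero_mul, P_zero]
    rw [hsplit, prodPts_append, prodPts_one (fun _ => rfl), _root_.mul_one]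
  have hlist : ∀ (m : ℕ) {X : Over S} (f : Fin m → (X ⟶ G)), (List.ofFn f).prod = prodPts m f := by
    intro m
    induction m with
    | zero => intro X f; simp
    | succ m ih => intro X f; rw [List.ofFn_succ, List.prod_cons, prodPts_succ, ih]
  have hmain : ∀ (C' : Fin n → Γ(S, ⊤)), (∀ (X : Over S) (x y : X ⟶ Red.Ga S) (z : Fin n → (X ⟶ Red.Ga S)),
      (∀ k, Red.gaFn (z k) = X.hom.appTop (C' k) * Red.gaFn x ^ (i k) * Red.gaFn y ^ (j k)) →
        (x ≫ D.u α) * (y ≫ D.u β) * (x ≫ D.u α)⁻¹ =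
          (y ≫ D.u β) * (List.ofFn (fun k => z k ≫ D.u (c k))).prod) ↔
      ∀ (X : Over S) (x y : Γ(X.left, ⊤)),
        cm α β x y = prodPts n fun k => P (D.u (c k)) (X.hom.appTop (C' k) * x ^ i k * y ^ j k) := by
    intro C'
    constructor
    · intro h X x y
      have := h X (Ga.gaPt x) (Ga.gaPt y) (fun k => Ga.gaPt (X.hom.appTop (C' k) * x ^ i k * y ^ j k))
        (fun k => by simp [Ga.gaFn_gaPt])
      rw [hlist] at this
      simp only [P_eq, Ga.gaFn_gaPt] at this
      rw [cm, _root_.mul_assoc, _root_.mul_assoc, ← _root_.mul_assoc (P (D.u α) x), this, inv_mul_cancel_left]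
    · intro h X x y z hz
      rw [hlist, P_eq, P_eq, ← inv_mul_eq_iff_eq_mul]
      refine Eq.trans ?_ ((h X (Red.gaFn x) (Red.gaFn y)).trans (congrArg _ (funext fun k => ?_)))
      · rw [cm]; group
      · rw [P_eq, hz k]
  refine ⟨C, (hmain C).2 key, fun C' hC' => funext fun k => ?_⟩
  have h1 := ((hmain C').1 hC' (𝟙_ (Over S)) 1 1).symm.trans (key (𝟙_ (Over S)) 1 1)
  have h2 := congrFun (uniq_coords _ _ h1) k
  simpa using h2

/-- The commutation formula. -/
theorem commutator_formula (bs : D.P.Base) (α β : D.idx) (hα : α ∈ RedSub.posRoots D.P bs)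
    (hβ : β ∈ RedSub.posRoots D.P bs) {n : ℕ} (c : Fin n → D.idx) (i j : Fin n → ℕ) (hc : Function.Injective c)
    (hij : ∀ k, 1 ≤ i k ∧ 1 ≤ j k ∧ D.P.root (c k) = (i k : ℤ) • D.P.root α + (j k : ℤ) • D.P.root β)
    (hall : ∀ (d : D.idx) (p q : ℕ), 1 ≤ p → 1 ≤ q → D.P.root d = (p : ℤ) • D.P.root α + (q : ℤ) • D.P.root β →
      d ∈ Set.range c) :
    ∃! C : Fin n → Γ(S, ⊤), ∀ (X : Over S) (x y : X ⟶ Red.Ga S) (z : Fin n → (X ⟶ Red.Ga S)),
      (∀ k, Red.gaFn (z k) = X.hom.appTop (C k) * Red.gaFn x ^ (i k) * Red.gaFn y ^ (j k)) →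
        (x ≫ D.u α) * (y ≫ D.u β) * (x ≫ D.u α)⁻¹ =
          (y ≫ D.u β) * (List.ofFn (fun k => z k ≫ D.u (c k))).prod := by
  haveI : D.P.IsCrystallographic := ⟨fun i j => ⟨D.P.pairing i j, by simp⟩⟩
  haveI : IsAddTorsionFree D.M := .of_isTorsionFree ℤ D.M
  haveI : IsAddTorsionFree (Module.Dual ℤ D.M) := .of_isTorsionFree ℤ _
  haveI : D.P.IsReduced := isReduced_of_base bs
  obtain ⟨l, hlp, hln⟩ := exists_regular (D := D) bs
  refine commutator_formula_of (l := l) (fun d => ?_) α β (hlp α hα) (hlp β hβ) c i j hc ?_ hij hall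
  · rcases bs.root_mem_or_neg_mem d with h | h
    · exact (hlp d h).ne'
    · exact (hln d h).ne
  rintro ⟨k, -⟩
  by_contra hdep
  obtain ⟨h1, h2, h3⟩ := hij k
  rcases RootPairing.IsReduced.eq_or_eq_neg (P := D.P) α β hdep with h | h
  · have e2 : D.P.root (c k) = (i k + j k) • D.P.root α := by
      rw [h3, h, natCast_zsmul, natCast_zsmul, ← add_nsmul]
    haveI : (i k + j k).AtLeastTwo := ⟨by omega⟩
    exact D.P.nsmul_notMem_range_root (n := i k + j k) (i := α) ⟨c k, e2⟩
  · have hlα := hlp α hα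
    have hlβ := hlp β hβ
    rw [h, map_neg] at hlα
    omega

end Groth.Agent.H82.Weyl
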