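import Groth.Agent.H82.Weyl.Points

/-!
# The Weyl group of a split group
-/

set_option autoImplicit false
set_option linter.style.haveILetI false
set_option linter.unusedSectionVars false
universe u

open CategoryTheory MonoidalCategory CartesianMonoidalCategory MonObj GrpObj AlgebraicGeometry
open Groth.Agent.Lib.RedPts Groth.Agent.H82.BigCell Groth.Agent.H82.Contract
open Groth.Agent.H82.RankOne (P P_eq gmPt_comp gmPt_eq gmPt_one)

namespace Groth.Agent.H82.Weyl

variable {S : Scheme.{u}} {G : Over S} [GrpObj G] {D : Red.SplitRed G}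

theorem sU_zpow (Y : Over S) [IsAffine Y.left] (k : ℤ) :
    ((sU Y ^ k : Γ((laur Y).left, ⊤)ˣ) : Γ((laur Y).left, ⊤)) = fn Y _ (LaurentPolynomial.T k) := by
  induction k using Int.induction_on with
  | zero => simp [LaurentPolynomial.T_zero]
  | succ i hi => rw [zpow_add_one, Units.val_mul, hi, sU_val, ← map_mul, ← LaurentPolynomial.T_add]
  | pred i hi =>
    rw [zpow_sub_one, Units.val_mul, hi, Units.mul_inv_eq_iff_eq_mul, sU_val, ← map_mul,
      ← LaurentPolynomial.T_add]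
    simp

theorem T_inj {R : Type*} [CommRing R] [Nontrivial R] {a b : ℤ}
    (h : (LaurentPolynomial.T a : LaurentPolynomial R) = LaurentPolynomial.T b) : a = b := by
  by_contra hne
  have h3 := congrArg (fun r : LaurentPolynomial R => r.coeff a) h
  simp only [LaurentPolynomial.T] at h3
  simp [Ne.symm hne] at h3

/-- Conjugation carries the torus into itself. -/
def Normal (D : Red.SplitRed G) {X : Over S} (g : X ⟶ G) : Prop :=
  ∀ (Y : Over S) (f : Y ⟶ X) (t : Y ⟶ D.T),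
    ∃ t' : Y ⟶ D.T, (f ≫ g) * (t ≫ D.i) * (f ≫ g)⁻¹ = t' ≫ D.i

theorem Normal.comp {X X' : Over S} {g : X ⟶ G} (h : Normal D g) (x : X' ⟶ X) : Normal D (x ≫ g) :=
  fun Y f t => by simpa only [Category.assoc] using h Y (f ≫ x) t

theorem Normal.mul {φ : D.M →+ D.M} {X : Over S} {g h : X ⟶ G} (hg : ActsBy φ g) (hh : Normal D h) :
    Normal D (g * h) := fun Y f t => by
  obtain ⟨t', ht'⟩ := hh Y f t
  refine ⟨act D φ t', ?_⟩
  rw [← hg Y f t', ← ht', MonObj.comp_mul]
  group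

theorem Carries.commutes {l : D.M →+ ℤ} {X : Over S} {g : X ⟶ G} (h : Carries l l g) :
    Commutes (gcochar D l) g := fun Y f z => by
  conv_lhs => rw [← h Y f z]
  group

theorem actsBy_torus {X : Over S} (t : X ⟶ D.T) : ActsBy (AddMonoidHom.id D.M) (t ≫ D.i) := fun Y f t' => by
  rw [act_id, ← Category.assoc, ← GrpObj.inv_comp, ← MonObj.mul_comp, ← MonObj.mul_comp,
    torus_comm D (f ≫ t), mul_inv_cancel_right]

section Field

variable {Y : Over S} [IsAffine Y.left]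

theorem exists_carries [IsDomain Γ(Y.left, ⊤)] {g : Y ⟶ G} (hg : Normal D g) (l : D.M →+ ℤ) :
    ∃ l', Carries l l' g := by
  let w : laur Y ⟶ Red.Gm S := Gm.gmPt (sU Y)
  obtain ⟨τ, hτ⟩ := hg (laur Y) (laurHom Y) (w ≫ cochar D l)
  let v : D.M → LaurentPolynomial Γ(Y.left, ⊤) := fun m => (fn Y _).symm (Gm.dsFn (τ ≫ D.split.hom.hom.hom) m)
  have hv : ∀ m, fn Y _ (v m) = Gm.dsFn (τ ≫ D.split.hom.hom.hom) m := fun m => RingEquiv.apply_symm_apply _ _
  have h1 : oneSec Y ≫ τ = 1 := by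
    rw [← cancel_mono D.i, Category.assoc, ← hτ, MonObj.one_comp]
    simp only [MonObj.comp_mul, GrpObj.comp_inv, oneSec_laurHom_assoc, w]
    rw [← Category.assoc (oneSec Y), ← Category.assoc (oneSec Y), gmPt_comp, oneSec_sU, gmPt_one,
      MonObj.one_comp, MonObj.one_comp, _root_.mul_one, mul_inv_cancel]
  have hk : ∀ m, ∃ k : ℤ, v m = LaurentPolynomial.T k := fun m => by
    obtain ⟨a, k, hak⟩ := exists_monomial ((Gm.isUnit_dsFn (τ ≫ D.split.hom.hom.hom) m).map (fn Y _).symm)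
    refine ⟨k, ?_⟩
    have h2 := congrArg (fun q => Gm.dsFn (q ≫ D.split.hom.hom.hom) m) h1
    dsimp only at h2
    rw [Category.assoc, Gm.dsFn_comp, ← hv, oneSec_fn,
      show (1 : Y ⟶ D.T) ≫ D.split.hom.hom.hom = 1 from
        MonObj.one_comp (show D.T ⟶ Red.DS S D.M from D.split.hom.hom.hom), Gm.dsFn_one] at h2
    have h3 : v m = LaurentPolynomial.C a * LaurentPolynomial.T k := hak
    rw [h3] at h2 ⊢
    simp only [map_mul, LaurentPolynomial.eval₂_C, LaurentPolynomial.eval₂_T, RingHom.id_apply, one_zpow,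
      Units.val_one, _root_.mul_one] at h2
    rw [h2, map_one, _root_.one_mul]
  choose k hk using hk
  have hadd : ∀ a b, k (a + b) = k a + k b := fun a b => by
    refine T_inj (R := Γ(Y.left, ⊤)) ((fn Y (LaurentPolynomial.C : Γ(Y.left, ⊤) →+* LaurentPolynomial Γ(Y.left, ⊤))).injective ?_)
    rw [LaurentPolynomial.T_add, map_mul, ← hk, ← hk, ← hk, hv, hv, hv, Gm.dsFn_add]
  refine ⟨AddMonoidHom.mk' k hadd, fun Z f z => ?_⟩
  have hτ' : τ = w ≫ cochar D (AddMonoidHom.mk' k hadd) := ext_dsFn fun m => by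
    rw [← hv, hk, ← sU_zpow]
    refine (gmFn_cochar D (AddMonoidHom.mk' k hadd) m (sU Y)).symm.trans ?_
    rw [chr, ← Category.assoc, Gm.gmFn_chi]
  let u : Γ(Z.left, ⊤)ˣ := (Gm.isUnit_gmFn z).unit
  obtain ⟨d, hd, hd'⟩ := exists_toExt (LaurentPolynomial.C : Γ(Y.left, ⊤) →+* LaurentPolynomial Γ(Y.left, ⊤)) f
    (LaurentPolynomial.eval₂ f.left.appTop.hom u) (by refine RingHom.ext fun a => ?_; simp)
  have hw : d ≫ w = z := Gm.gmFn_injective (by
    rw [Gm.gmFn_comp, Gm.gmFn_gmPt, sU_val, hd', LaurentPolynomial.eval₂_T]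
    simp [u])
  have h4 := congrArg (d ≫ ·) hτ
  simp only [MonObj.comp_mul, GrpObj.comp_inv, hτ', ← Category.assoc] at h4
  rw [hd, hw] at h4
  simpa only [Category.assoc] using h4

theorem regular_of_carries [Nontrivial Γ(Y.left, ⊤)] {g : Y ⟶ G} (hg : Normal D g) {l l' : D.M →+ ℤ}
    (hc : Carries l l' g) (hl : ∀ a, l (D.P.root a) ≠ 0) (a : D.idx) : l' (D.P.root a) ≠ 0 := fun h0 => by
  let p : Y ⟶ G := P (D.u a) (1 : Γ(Y.left, ⊤))
  have hp : Commutes (gcochar D l) (g⁻¹ * p * g) := fun Z f z => by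
    obtain ⟨s, rfl⟩ : ∃ s, z = Gm.gmPt s := ⟨(Gm.isUnit_gmFn z).unit, gmPt_eq z (by simp)⟩
    have h1 := isRootPts D a (Gm.gmPt s ≫ cochar D l') (f.left.appTop (1 : Γ(Y.left, ⊤)))
    rw [gmFn_cochar, h0, zpow_zero, Units.val_one, _root_.one_mul, ← RankOne.P_comp, Category.assoc,
      ← hc Z f (Gm.gmPt s)] at h1
    simp only [p, MonObj.comp_mul, GrpObj.comp_inv]
    refine mul_left_cancel (a := f ≫ g) (mul_right_cancel (b := (f ≫ g)⁻¹) ?_)
    refine Eq.trans ?_ (h1.trans ?_) <;> group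
  obtain ⟨t, ht⟩ := exists_torus_of_regular hl hp
  obtain ⟨t', ht'⟩ := hg Y (𝟙 Y) t
  rw [Category.id_comp, ht] at ht'
  have ht'' : p = t' ≫ D.i := by rw [← ht']; group
  let T := Gm.gmPt (sU Y) ≫ cochar D l
  have h1 := isRootPts D a T ((laurHom Y).left.appTop (1 : Γ(Y.left, ⊤)))
  rw [gmFn_cochar, map_one, _root_.mul_one, ← map_one (laurHom Y).left.appTop.hom] at h1
  have h2 : (T ≫ D.i) * (laurHom Y ≫ p) = (laurHom Y ≫ p) * (T ≫ D.i) := by
    rw [ht'', ← Category.assoc, ← MonObj.mul_comp, ← MonObj.mul_comp, torus_comm D]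
  rw [← RankOne.P_comp, h2] at h1
  have h3 := congrArg Red.gaFn ((cancel_mono (D.u a)).1 ((RankOne.P_comp _ _ _).symm.trans (mul_right_cancel h1)))
  rw [Ga.gaFn_gaPt, Ga.gaFn_gaPt, map_one, sU_zpow, ← map_one (fn Y _), ← LaurentPolynomial.T_zero] at h3
  exact hl a (T_inj ((fn Y _).injective h3)).symm

/-- At a point with a domain of functions a normalizing point acts by a word of reflections. -/
theorem exists_actsBy_of_normal [IsDomain Γ(Y.left, ⊤)] [Nonempty Y.left] {g : Y ⟶ G} (hg : Normal D g) :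
    ∃ L : List D.idx, ∀ m : 𝟙_ (Over S) ⟶ G, ActsBy (wmap D L) (toUnit Y ≫ m) →
      ∃ t : Y ⟶ D.T, t ≫ D.i = (toUnit Y ≫ m) * g := by
  obtain ⟨l, hl⟩ := exists_regular_functional D
  obtain ⟨l', hc⟩ := exists_carries hg l
  have hl' := regular_of_carries hg hc hl
  obtain ⟨L, hL⟩ := exists_word D.P l l' hl hl'
  refine ⟨L, fun m hm => ?_⟩
  have hc' : Carries l (l'.comp (wmap D L)) ((toUnit Y ≫ m) * g) := (hm.carries l').mul hc
  have e := eq_of_carries hl hL (fun a => by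
    change l' (word D.P L (D.P.root a)) ≠ 0
    rw [word_root]; exact hl' _) hc'
  rw [← e] at hc'
  exact exists_torus_of_regular hl hc'.commutes

end Field

theorem actsBy_unique {Y : Over S} [IsAffine Y.left] [Nontrivial Γ(Y.left, ⊤)] {φ ψ : D.M →+ D.M}
    {g : Y ⟶ G} (h : ActsBy φ g) (h' : ActsBy ψ g) : φ = ψ := by
  let B := Module.finBasis ℤ D.M
  refine AddMonoidHom.ext fun m => B.ext_elem fun j => ?_
  refine DFunLike.congr_fun (eq_of_cochar_eq (l := (B.coord j).toAddMonoidHom.comp φ)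
    (l' := (B.coord j).toAddMonoidHom.comp ψ) (Y := Y) ?_) m
  rw [← cancel_mono D.i, ← act_cochar, ← act_cochar, ← h (laur Y) (laurHom Y), ← h' (laur Y) (laurHom Y)]

end Groth.Agent.H82.Weyl
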