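import Groth.Agent.H82.Weyl.Field

/-!
# Normalizing points over a connected base act by the Weyl group
-/

set_option autoImplicit false
set_option linter.style.haveILetI false
set_option linter.unusedSectionVars false
universe u

open CategoryTheory MonoidalCategory CartesianMonoidalCategory MonObj GrpObj AlgebraicGeometry
open Groth.Agent.Lib.RedPts Groth.Agent.H82.BigCell Groth.Agent.H82.Contract

namespace Groth.Agent.H82.Weyl

variable {S : Scheme.{u}} {G : Over S} [GrpObj G] {D : Red.SplitRed G}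

/-- A normalizing point of the cell centralizes the torus. -/
theorem actsBy_of_cell {l : D.M →+ ℤ} {n m : ℕ} {e : Fin n → D.idx} {e' : Fin m → D.idx}
    (he : ∀ k, l (D.P.root (e k)) < 0) (he' : ∀ k, 0 < l (D.P.root (e' k))) {X : Over S} {g : X ⟶ G}
    (hg : Normal D g) (z : X ⟶ RedSub.pow (Red.Ga S) n ⊗ (D.T ⊗ RedSub.pow (Red.Ga S) m))
    (hz : z ≫ RedSub.cellMap D e e' = g) : ActsBy (AddMonoidHom.id D.M) g := fun Y f t => by
  haveI := isAffineHom D
  obtain ⟨τ, hτ⟩ := hg Y f t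
  have hc := comp_cellMap (e := e) e' (f ≫ z)
  rw [Category.assoc f z, hz] at hc
  obtain ⟨y, hy⟩ := exists_conj_prod e τ ((f ≫ z) ≫ fst _ _)
  obtain ⟨x, hx⟩ := exists_conj_prod e' t⁻¹ ((f ≫ z) ≫ snd _ _ ≫ snd _ _)
  set y₀ := ((f ≫ z) ≫ fst _ _) ≫ RedSub.prodMap (Red.Ga S) n fun k => D.u (e k)
  set t₀ := (f ≫ z) ≫ snd _ _ ≫ fst _ _
  set x₀ := ((f ≫ z) ≫ snd _ _ ≫ snd _ _) ≫ RedSub.prodMap (Red.Ga S) m fun k => D.u (e' k)
  set y₁ := y ≫ RedSub.prodMap (Red.Ga S) n fun k => D.u (e k)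
  set x₁ := x ≫ RedSub.prodMap (Red.Ga S) m fun k => D.u (e' k)
  have h1 : y₀ * (((t₀ * t) ≫ D.i) * x₁) = y₁ * (((τ * t₀) ≫ D.i) * x₀) := by
    rw [mul_inv_eq_iff_eq_mul, hc] at hτ
    have hx1 : x₀ * (t ≫ D.i) = (t ≫ D.i) * x₁ := by
      rw [GrpObj.inv_comp, inv_mul_eq_iff_eq_mul, ← _root_.mul_assoc, eq_mul_inv_iff_mul_eq] at hx
      exact hx
    rw [MonObj.mul_comp, MonObj.mul_comp, _root_.mul_assoc, ← hx1]
    calc y₀ * ((t₀ ≫ D.i) * (x₀ * (t ≫ D.i))) = y₀ * ((t₀ ≫ D.i) * x₀) * (t ≫ D.i) := by group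
      _ = (τ ≫ D.i) * (y₀ * ((t₀ ≫ D.i) * x₀)) := hτ
      _ = ((τ ≫ D.i) * y₀) * ((t₀ ≫ D.i) * x₀) := by group
      _ = _ := by rw [hy]; group
  have h2 := (factors_unique (c := gcochar D l) (isLimPt_neg he _) (isLimPt_neg he _) (isLimPt_torus_pt _)
    (isLimPt_torus_pt _) (isLimPt_pos he' _) (isLimPt_pos he' _) h1).2.1
  rw [cancel_mono, torus_comm D τ] at h2
  rw [hτ, act_id, mul_left_cancel h2]

theorem normal_of_isNormalizerOf {N : Over S} [GrpObj N] {j : N ⟶ G} (hN : Red.IsNormalizerOf D.i j)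
    {X : Over S} (n : X ⟶ N) : Normal D (n ≫ j) := fun Y f t =>
  (((hN.2.2 X (n ≫ j)).1 ⟨n, rfl⟩) Y f t).1

/-- The inclusion of an open subscheme of an object over the base. -/
noncomputable abbrev openObj (X : Over S) (U : X.left.Opens) : Over S := Over.mk (U.ι ≫ X.hom)

/-- The inclusion. -/
noncomputable abbrev openHom (X : Over S) (U : X.left.Opens) : openObj X U ⟶ X := Over.homMk U.ι rfl

/-- Near every point a normalizing point acts by a word of reflections. -/
theorem exists_nhd {X : Over S} {g : X ⟶ G} (hg : Normal D g) (p : X.left) :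
    ∃ (L : List D.idx) (U : X.left.Opens), p ∈ U ∧ ActsBy (wmap D L) (openHom X U ≫ g) := by
  let Y := ptObj X p
  haveI : IsAffine Y.left := inferInstanceAs (IsAffine (Spec (X.left.residueField p)))
  haveI : IsDomain Γ(Y.left, ⊤) := (isField_ptObj X p).isDomain
  let y₀ : Y.left := IsLocalRing.closedPoint (X.left.residueField p)
  haveI : Nonempty Y.left := ⟨y₀⟩
  obtain ⟨L, hL⟩ := exists_actsBy_of_normal (hg.comp (ptHom X p))
  obtain ⟨m, hm⟩ := exists_actsBy L
  obtain ⟨t, ht⟩ := hL m (hm Y)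
  obtain ⟨l, hl⟩ := exists_regular_functional D
  obtain ⟨k, k', e, e', he, he', -, -, ho⟩ := exists_cell hl
  let h : X ⟶ G := (toUnit X ≫ m) * g
  let U : X.left.Opens := h.left ⁻¹ᵁ (RedSub.cellMap D e e').left.opensRange
  have hp : p ∈ U := by
    have h1 := range_torus_subset (D := D) (e := e) (e' := e') t
    rw [ht] at h1
    change h.left p ∈ Set.range (RedSub.cellMap D e e').left
    have h2 : (ptHom X p).left y₀ = p := by
      have h3 : (ptHom X p).left y₀ ∈ Set.range (X.left.fromSpecResidueField p) := ⟨_, rfl⟩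
      rwa [Scheme.range_fromSpecResidueField] at h3
    rw [← h2, ← Scheme.Hom.comp_apply, ← Over.comp_left, MonObj.comp_mul, comp_toUnit_assoc]
    exact h1 ⟨y₀, rfl⟩
  obtain ⟨z, hz⟩ := exists_factor (RedSub.cellMap D e e') (openHom X U ≫ h) (by
    rintro _ ⟨w, rfl⟩
    exact w.2)
  have h4 : ActsBy (AddMonoidHom.id D.M) (openHom X U ≫ h) :=
    actsBy_of_cell he he' ((Normal.mul (hm X) hg).comp _) z hz
  refine ⟨L.reverse, U, hp, ?_⟩
  have h5 := ActsBy.mul (ActsBy.inv (ψ := wmap D L.reverse) (hm (openObj X U))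
    (by simpa using wmap_reverse_comp (D := D) L.reverse)) h4
  rw [MonObj.comp_mul, comp_toUnit_assoc, inv_mul_cancel_left] at h5
  exact h5

theorem exists_global {X : Over S} [ConnectedSpace X.left] {g : X ⟶ G} (hg : Normal D g) :
    ∃ L : List D.idx, ActsBy (wmap D L) g := by
  choose L U hU hA using exists_nhd hg
  have hres : ∀ p q : X.left, q ∈ U p → ActsBy (wmap D (L p)) (ptHom X q ≫ g) := fun p q hq => by
    let i : ptObj X q ⟶ openObj X (U p) := Over.homMk (IsOpenImmersion.lift (U p).ι (ptHom X q).left (by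
      rintro v ⟨w, hw⟩
      rw [Scheme.Opens.range_ι]
      have h3 : v ∈ Set.range (X.left.fromSpecResidueField q) := ⟨w, hw⟩
      rw [Scheme.range_fromSpecResidueField] at h3
      exact (Set.mem_singleton_iff.1 h3).symm ▸ hq)) (by simp)
    have hi : i ≫ openHom X (U p) = ptHom X q := Over.OverMorphism.ext (by simp [i])
    have := (hA p).comp i
    rwa [← Category.assoc, hi] at this
  have huniq : ∀ p q : X.left, q ∈ U p → wmap D (L p) = wmap D (L q) := fun p q hq => by
    haveI : IsAffine (ptObj X q).left := inferInstanceAs (IsAffine (Spec (X.left.residueField q)))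
    haveI := (isField_ptObj X q).nontrivial
    exact actsBy_unique (hres p q hq) (hres q q (hU q))
  obtain ⟨p₀⟩ := (inferInstance : Nonempty X.left)
  have hopen : ∀ φ, IsOpen {p : X.left | wmap D (L p) = φ} := fun φ => isOpen_iff_forall_mem_open.2
    fun p hp => ⟨U p, fun q hq => (huniq p q hq).symm.trans hp, (U p).2, hU p⟩
  have hclopen : IsClopen {p : X.left | wmap D (L p) = wmap D (L p₀)} := by
    refine ⟨isOpen_compl_iff.1 (isOpen_iff_forall_mem_open.2 fun p hp => ?_), hopen _⟩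
    exact ⟨{q | wmap D (L q) = wmap D (L p)}, fun q hq h => hp (hq.symm.trans h), hopen _, rfl⟩
  have hall := hclopen.eq_univ ⟨p₀, rfl⟩
  refine ⟨L p₀, fun Y f t => Over.OverMorphism.ext ?_⟩
  refine Scheme.Cover.hom_ext (Y.left.openCoverOfIsOpenCover (fun p => f.left ⁻¹ᵁ U p)
    (TopologicalSpace.IsOpenCover.mk (eq_top_iff.2 fun w _ =>
      TopologicalSpace.Opens.mem_iSup.2 ⟨f.left w, hU _⟩))) _ _ fun p => ?_
  let W := f.left ⁻¹ᵁ U p
  have key : openHom Y W ≫ ((f ≫ g) * (t ≫ D.i) * (f ≫ g)⁻¹) = openHom Y W ≫ (act D (wmap D (L p₀)) t ≫ D.i) := by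
    let r : openObj Y W ⟶ openObj X (U p) := Over.homMk (f.left ∣_ U p) (by
      change _ ≫ _ ≫ X.hom = _ ≫ Y.hom
      rw [morphismRestrict_ι_assoc, Over.w f])
    have hr : r ≫ openHom X (U p) = openHom Y W ≫ f := Over.OverMorphism.ext (by simp [r, W])
    have := hA p (openObj Y W) r (openHom Y W ≫ t)
    have hp' : wmap D (L p) = wmap D (L p₀) := Set.eq_univ_iff_forall.1 hall p
    rw [← Category.assoc r, hr, hp'] at this
    rw [MonObj.comp_mul, MonObj.comp_mul, GrpObj.comp_inv, ← Category.assoc (openHom Y W) f,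
      ← Category.assoc (openHom Y W) t, ← Category.assoc (openHom Y W) (act D _ t), comp_act]
    exact this
  exact congrArg Over.Hom.left key

end Groth.Agent.H82.Weyl
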