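import Groth.Agent.H82.Weyl.RankOneGen
import Groth.Agent.H82.Weyl.FieldHom

/-!
# Homomorphisms agreeing on the torus and the simple root groups are equal
-/

set_option autoImplicit false
set_option linter.style.haveILetI false
set_option linter.unusedSectionVars false
universe u

open CategoryTheory MonoidalCategory CartesianMonoidalCategory MonObj GrpObj AlgebraicGeometry
open Groth.Agent.Lib.RedPts Groth.Agent.H82.BigCell Groth.Agent.H82.Contract
open Groth.Agent.H82.RankOne (P P_eq P_zero P_comp)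

namespace Groth.Agent.H82.Weyl

variable {S : Scheme.{u}} {G H : Over S} [GrpObj G] [GrpObj H] {D : Red.SplitRed G}

theorem isCrystallographic_int (D : Red.SplitRed G) : D.P.IsCrystallographic :=
  ⟨fun i j => ⟨D.P.pairing i j, by simp⟩⟩

theorem hom_ext_roots (f g : G ⟶ H) [IsMonHom f] [IsMonHom g] (hT : D.i ≫ f = D.i ≫ g)
    (hu : ∀ c, D.u c ≫ f = D.u c ≫ g) : f = g := by
  obtain ⟨l, hl⟩ := exists_regular_functional D
  obtain ⟨n, m, e, e', -, -, -, -, ho⟩ := exists_cell hl
  obtain ⟨X', c, z, z', hc, -, hcz⟩ := exists_two_cells (e := e) (e' := e') (𝟙 G)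
  have hcell : ∀ w : X' ⟶ _, (w ≫ RedSub.cellMap D e e') ≫ f = (w ≫ RedSub.cellMap D e e') ≫ g := fun w => by
    rw [comp_cellMap, comp_prodMap, comp_prodMap]
    simp only [MonObj.mul_comp _ _ f, MonObj.mul_comp _ _ g, prodPts_comp_hom f, prodPts_comp_hom g,
      Category.assoc, hu, hT]
  refine RankOne.eq_of_epi (G := H) hc ?_
  rw [← Category.comp_id c, hcz, MonObj.mul_comp _ _ f, MonObj.mul_comp _ _ g, hcell z, hcell z']

/-- Homomorphisms agreeing on the torus and on the root groups of simple roots and their negatives. -/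
theorem hom_ext_simple (b : D.P.Base) (f g : G ⟶ H) [IsMonHom f] [IsMonHom g] (hT : D.i ≫ f = D.i ≫ g)
    (hU : ∀ a ∈ b.support, D.u a ≫ f = D.u a ≫ g ∧
      D.u (D.P.reflectionPerm a a) ≫ f = D.u (D.P.reflectionPerm a a) ≫ g) : f = g := by
  classical
  haveI := isCrystallographic_int D
  haveI : IsAddTorsionFree D.M := .of_isTorsionFree ℤ D.M
  haveI : IsAddTorsionFree (Module.Dual ℤ D.M) := .of_isTorsionFree ℤ _
  haveI : D.P.IsReduced := isReduced_of_base b
  let Ag : ∀ {X : Over S}, (X ⟶ G) → Prop := fun {X} z => z ≫ f = z ≫ g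
  have hmul : ∀ {X : Over S} {p q : X ⟶ G}, Ag p → Ag q → Ag (p * q) := fun {X p q} hp hq => by
    simp only [Ag] at hp hq ⊢
    rw [MonObj.mul_comp _ _ f, MonObj.mul_comp _ _ g, hp, hq]
  have hinv : ∀ {X : Over S} {p : X ⟶ G}, Ag p → Ag p⁻¹ := fun {X p} hp => by
    simp only [Ag] at hp ⊢
    rw [GrpObj.inv_comp _ f, GrpObj.inv_comp _ g, hp]
  have ht : ∀ {X : Over S} (t : X ⟶ D.T), Ag (t ≫ D.i) := fun {X} t => by
    simp only [Ag, Category.assoc, hT]
  have hs : ∀ a ∈ b.support, ∀ {X : Over S} (x : X ⟶ Red.Ga S),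
      Ag (x ≫ D.u a) ∧ Ag (x ≫ D.u (D.P.reflectionPerm a a)) := fun a ha X x => by
    constructor
    · simp only [Ag, Category.assoc, (hU a ha).1]
    · simp only [Ag, Category.assoc, (hU a ha).2]
  have hn : ∀ a ∈ b.support, ∃ n : 𝟙_ (Over S) ⟶ G, Ag n ∧ ∀ X, ActsBy (wmap D [a]) (toUnit X ≫ n) := by
    intro a ha
    obtain ⟨n, hn⟩ := exists_actsBy (D := D) [a]
    refine ⟨n, ?_, hn⟩
    obtain ⟨lam, h0, hne⟩ := exists_singular_functional D a
    have hlam : lam.comp (wmap D [a]) = lam := by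
      ext x
      simp [wmap, D.P.reflection_apply, h0]
    have hc := (hn (𝟙_ (Over S))).carries lam
    rw [hlam, toUnit_unique (toUnit (𝟙_ (Over S))) (𝟙 _), Category.id_comp] at hc
    obtain ⟨X', c, x, x', y, y', t, t', he, hct⟩ :=
      exists_rankOne (j := a) (j' := D.P.reflectionPerm a a)
        (by rw [D.P.root_reflectionPerm, D.P.reflection_apply_self]) h0 hne hc.commutes
    have hag : Ag (c ≫ n) := by
      rw [hct]
      exact hmul (hmul (hs a ha x').2 (hmul (ht t') (hs a ha y').1))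
        (hinv (hmul (hs a ha x).2 (hmul (ht t) (hs a ha y).1)))
    simp only [Ag, Category.assoc] at hag
    exact RankOne.eq_of_epi (G := H) he hag
  have hword : ∀ L : List D.idx, (∀ a ∈ L, a ∈ b.support) →
      ∃ n : 𝟙_ (Over S) ⟶ G, Ag n ∧ ∀ X, ActsBy (wmap D L) (toUnit X ≫ n) := by
    intro L
    induction L with
    | nil =>
      refine fun _ => ⟨1, ?_, fun X => ?_⟩
      · simp only [Ag, MonObj.one_comp f, MonObj.one_comp g]
      · rw [MonObj.comp_one, wmap_nil]; exact actsBy_one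
    | cons a L ih =>
      intro hL
      obtain ⟨p, hp, hp'⟩ := ih fun x hx => hL x (List.mem_cons_of_mem a hx)
      obtain ⟨q, hq, hq'⟩ := hn a (hL a List.mem_cons_self)
      refine ⟨p * q, hmul hp hq, fun X => ?_⟩
      have h := (hp' X).mul (hq' X)
      rw [← MonObj.comp_mul, show wmap D [a] = (D.P.reflection a).toLinearMap.toAddMonoidHom by
        rw [wmap_cons, wmap_nil]; rfl] at h
      rw [wmap_cons]
      exact h
  refine hom_ext_roots f g hT fun c => ?_
  obtain ⟨L, j, hj, hL, k, hk, hkj⟩ : ∃ (L : List D.idx) (j : D.idx), j ∈ b.support ∧ (∀ a ∈ L, a ∈ b.support) ∧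
      ∃ k, (k = j ∨ k = D.P.reflectionPerm j j) ∧ word D.P L (D.P.root c) = D.P.root k := by
    rcases RootPairing.Base.IsPos.or_neg b c with hc | hc
    · obtain ⟨L, hL, j, hj, h⟩ := exists_word_simple_pos b hc
      exact ⟨L, j, hj, hL, j, Or.inl rfl, h⟩
    · obtain ⟨L, hL, j, hj, h⟩ := exists_word_simple_pos b hc
      refine ⟨L, j, hj, hL, _, Or.inr rfl, ?_⟩
      rw [D.P.root_reflectionPerm, D.P.reflection_apply_self, ← h, ← map_neg]
      refine congrArg _ ?_
      change _ = -D.P.root (D.P.reflectionPerm c c)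
      rw [D.P.root_reflectionPerm, D.P.reflection_apply_self, neg_neg]
  obtain ⟨p, hp, hp'⟩ := hword L.reverse fun a ha => hL a (List.mem_reverse.1 ha)
  let v : Red.Ga S ⟶ G := (toUnit _ ≫ p) * D.u c * (toUnit _ ≫ p)⁻¹
  have hv : ∀ {X : Over S} (x : X ⟶ Red.Ga S), x ≫ v = (toUnit X ≫ p) * (x ≫ D.u c) * (toUnit X ≫ p)⁻¹ :=
    fun {X} x => by simp only [v, MonObj.comp_mul, GrpObj.comp_inv, comp_toUnit_assoc]
  haveI : IsMonHom v := H87.HomDS.isMonHom_of_points v fun X x y => by
    rw [hv, hv, hv, MonObj.mul_comp x y (D.u c)]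
    group
  have hr : IsRootPts D.i (chr D (D.P.root k)) v := fun {X} t x => by
    have hi := (hp' X).inv (ψ := wmap D L) (by simpa using wmap_reverse_comp (D := D) L) X (𝟙 X) t
    rw [Category.id_comp, _root_.inv_inv] at hi
    have h1 := isRootPts D c (act D (wmap D L) t) x
    have hα : Red.gmFn (act D (wmap D L) t ≫ chr D (D.P.root c)) = Red.gmFn (t ≫ chr D (D.P.root k)) := by
      rw [chr, chr, ← Category.assoc, ← Category.assoc, Gm.gmFn_chi, Gm.gmFn_chi, dsFn_act]
      exact congrArg _ hkj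
    rw [hα, ← hi] at h1
    change (t ≫ D.i) * (Ga.gaPt x ≫ v) = (Ga.gaPt _ ≫ v) * (t ≫ D.i)
    rw [hv, hv]
    refine mul_left_cancel (a := (toUnit X ≫ p)⁻¹) (mul_right_cancel (b := toUnit X ≫ p) ?_)
    refine Eq.trans ?_ (h1.trans ?_) <;> simp only [P] <;> group
  obtain ⟨σ, hσ⟩ := exists_comp_root v k hr
  have hag : Ag v := by
    rw [← hσ]
    rcases hk with rfl | rfl
    · exact (hs _ hj σ).1
    · exact (hs _ hj σ).2
  have hu : D.u c = (toUnit _ ≫ p)⁻¹ * v * (toUnit _ ≫ p) := by simp only [v]; group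
  have hp1 : Ag (toUnit (Red.Ga S) ≫ p) := by
    simp only [Ag, Category.assoc]
    exact congrArg _ hp
  have hfin := hmul (hmul (hinv hp1) hag) hp1
  rw [← hu] at hfin
  exact hfin

end Groth.Agent.H82.Weyl
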