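import Groth.Agent.H82.Weyl.HomExt

/-!
# Homomorphisms from pinned groups agreeing on the simple generators
-/

set_option autoImplicit false
set_option linter.style.haveILetI false
set_option linter.unusedSectionVars false
universe u

open CategoryTheory MonoidalCategory CartesianMonoidalCategory MonObj GrpObj AlgebraicGeometry
open Groth.Agent.Lib.RedPts Groth.Agent.H82.BigCell Groth.Agent.H82.Contract
open Groth.Agent.H82.RankOne (P P_eq P_zero P_comp P_neg gmPt_eq Sys)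

namespace Groth.Agent.H82.Weyl

variable {S : Scheme.{u}} {G H : Over S} [GrpObj G] [GrpObj H] {D : Red.SplitRed G}

/-- Duality of the root homomorphisms of `a` and its negative. -/
def Dual (D : Red.SplitRed G) (a : D.idx) : Prop :=
  ∀ (X : Over S) (x y : X ⟶ Red.Ga S), IsUnit (1 + Red.gaFn x * Red.gaFn y) →
    ∃ (x' y' : X ⟶ Red.Ga S) (z : X ⟶ Red.Gm S), Red.gmFn z = 1 + Red.gaFn x * Red.gaFn y ∧
      Red.gaFn x' * Red.gmFn z = Red.gaFn x ∧ Red.gaFn y' * Red.gmFn z = Red.gaFn y ∧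
      (x ≫ D.u a) * (y ≫ D.u (D.P.reflectionPerm a a)) = (y' ≫ D.u (D.P.reflectionPerm a a)) *
        (z ≫ (Red.DSmap S (D.P.coroot a).toAddMonoidHom ≫ D.split.inv.hom.hom) ≫ D.i) * (x' ≫ D.u a)

theorem sys_of_dual {a : D.idx} (h : Dual D a) :
    Sys D.i (chr D (D.P.root a)) (D.u a) (D.u (D.P.reflectionPerm a a))
      (cochar D (D.P.coroot a).toAddMonoidHom) where
  conjP t x := isRootPts D a t x
  conjM {X} t x := by
    haveI : IsMonHom (chr D (D.P.root a)) := by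
      haveI : IsMonHom (show D.T ⟶ Red.DS S D.M from D.split.hom.hom.hom) := D.split.hom.hom.isMonHom_hom
      exact inferInstanceAs (IsMonHom ((show D.T ⟶ Red.DS S D.M from D.split.hom.hom.hom) ≫ Red.chi S (D.P.root a)))
    have e : t ≫ chr D (D.P.root (D.P.reflectionPerm a a)) = t ≫ (chr D (D.P.root a))⁻¹ := by
      rw [GrpObj.comp_inv, eq_inv_iff_mul_eq_one, chr, chr, ← Category.assoc, ← Category.assoc, ← Gm.chi_add,
        D.P.root_reflectionPerm, D.P.reflection_apply_self, neg_add_cancel, Gm.chi_zero]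
    rw [isRootPts D (D.P.reflectionPerm a a) t x, e]
  sq u := by
    rw [gmFn_cochar, show (D.P.coroot a).toAddMonoidHom (D.P.root a) = 2 by
      have := D.P.root_coroot_eq_pairing a a
      rw [D.P.pairing_same, D.pairing_eq] at this
      exact this, zpow_two, Units.val_mul]
  av_mul u v := by rw [RankOne.gmPt_mul, MonObj.mul_comp]
  rule {X} x y u hu := by
    obtain ⟨x', y', z, hz, hx', hy', hxy⟩ := h X (Ga.gaPt x) (Ga.gaPt y)
      (by simpa [← hu] using u.isUnit)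
    simp only [Ga.gaFn_gaPt, ← hu] at hz hx' hy'
    rw [hz] at hx' hy'
    rw [← Units.eq_mul_inv_iff_mul_eq] at hx' hy'
    rw [P_eq, P_eq, P_eq, P_eq, hx', hy', Ga.gaFn_gaPt, Ga.gaFn_gaPt, gmPt_eq z hz] at hxy
    exact hxy

theorem actsBy_W {a : D.idx} (h : Dual D a) (X : Over S) :
    ActsBy (D.P.reflection a).toLinearMap.toAddMonoidHom
      (Sys.W (D.u a) (D.u (D.P.reflectionPerm a a)) (1 : Γ(X.left, ⊤)ˣ)) := fun Y f t => by
  have hs := sys_of_dual h
  have hW : f ≫ Sys.W (D.u a) (D.u (D.P.reflectionPerm a a)) (1 : Γ(X.left, ⊤)ˣ) =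
      Sys.W (D.u a) (D.u (D.P.reflectionPerm a a)) (1 : Γ(Y.left, ⊤)ˣ) := by
    simp [Sys.W, MonObj.comp_mul, P_comp]
  rw [hW, hs.W_conj t 1, inv_mul_eq_iff_eq_mul]
  have h1 : (t ≫ chr D (D.P.root a) ≫ cochar D (D.P.coroot a).toAddMonoidHom) *
      act D (D.P.reflection a).toLinearMap.toAddMonoidHom t = t := by
    haveI : IsMonHom (show D.T ⟶ Red.DS S D.M from D.split.hom.hom.hom) := D.split.hom.hom.isMonHom_hom
    refine ext_dsFn fun m => ?_
    rw [show ∀ p q : Y ⟶ D.T, (p * q) ≫ D.split.hom.hom.hom = (p ≫ D.split.hom.hom.hom) * (q ≫ D.split.hom.hom.hom)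
      from fun p q => MonObj.mul_comp p q (show D.T ⟶ Red.DS S D.M from D.split.hom.hom.hom), Gm.dsFn_mul,
      dsFn_act, ← Category.assoc t (chr D _), dsFn_cochar, chr, ← Category.assoc t, Red.chi, Gm.dsFn_DSmap,
      ← Gm.dsFn_add]
    refine congrArg _ ?_
    simp [D.P.reflection_apply, RootPairing.coroot', D.pairing_eq, zmultiplesHom_apply]
  conv_lhs => rw [← h1]
  simp only [MonObj.mul_comp _ _ D.i, Category.assoc]

theorem hom_ext_pinned (b : D.P.Base) (hd : ∀ a ∈ b.support, Dual D a) (e₁ : 𝟙_ (Over S) ⟶ Red.Ga S)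
    (he₁ : Red.gaFn e₁ = 1) (f g : G ⟶ H) [IsMonHom f] [IsMonHom g] (hT : D.i ≫ f = D.i ≫ g)
    (hU : ∀ a ∈ b.support, D.u a ≫ f = D.u a ≫ g)
    (hw : ∀ a ∈ b.support, ((e₁ ≫ D.u a) * (e₁ ≫ D.u (D.P.reflectionPerm a a))⁻¹ * (e₁ ≫ D.u a)) ≫ f =
      ((e₁ ≫ D.u a) * (e₁ ≫ D.u (D.P.reflectionPerm a a))⁻¹ * (e₁ ≫ D.u a)) ≫ g) : f = g := by
  haveI := isCrystallographic_int D
  haveI : IsAddTorsionFree D.M := .of_isTorsionFree ℤ D.M
  haveI : IsAddTorsionFree (Module.Dual ℤ D.M) := .of_isTorsionFree ℤ _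
  haveI : D.P.IsReduced := isReduced_of_base b
  refine hom_ext_simple b f g hT fun a ha => ⟨hU a ha, ?_⟩
  set w := (e₁ ≫ D.u a) * (e₁ ≫ D.u (D.P.reflectionPerm a a))⁻¹ * (e₁ ≫ D.u a) with hwdef
  have hW : ∀ X : Over S, toUnit X ≫ w = Sys.W (D.u a) (D.u (D.P.reflectionPerm a a)) (1 : Γ(X.left, ⊤)ˣ) := fun X => by
    simp only [hwdef, Sys.W, MonObj.comp_mul, GrpObj.comp_inv]
    rw [← Category.assoc, ← Category.assoc, P_eq, P_eq, Ga.gaFn_comp, he₁, map_one, inv_one, Units.val_one, P_neg]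
  let v : Red.Ga S ⟶ G := (toUnit _ ≫ w) * D.u (D.P.reflectionPerm a a) * (toUnit _ ≫ w)⁻¹
  have hv : ∀ {X : Over S} (x : X ⟶ Red.Ga S),
      x ≫ v = (toUnit X ≫ w) * (x ≫ D.u (D.P.reflectionPerm a a)) * (toUnit X ≫ w)⁻¹ :=
    fun {X} x => by simp only [v, MonObj.comp_mul, GrpObj.comp_inv, comp_toUnit_assoc]
  haveI : IsMonHom v := H87.HomDS.isMonHom_of_points v fun X x y => by
    rw [hv, hv, hv, MonObj.mul_comp x y (D.u _)]
    group
  have hr : IsRootPts D.i (chr D (D.P.root a)) v := fun {X} t x => by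
    set r := (D.P.reflection a).toLinearMap.toAddMonoidHom
    have hr2 : r.comp r = AddMonoidHom.id D.M := by
      ext m
      simp [r]
    have hi := (actsBy_W (hd a ha) X).inv hr2 X (𝟙 X) t
    rw [Category.id_comp, _root_.inv_inv, ← hW] at hi
    have h1 := isRootPts D (D.P.reflectionPerm a a) (act D r t) x
    have hα : Red.gmFn (act D r t ≫ chr D (D.P.root (D.P.reflectionPerm a a))) = Red.gmFn (t ≫ chr D (D.P.root a)) := by
      rw [chr, chr, ← Category.assoc, ← Category.assoc, Gm.gmFn_chi, Gm.gmFn_chi, dsFn_act]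
      refine congrArg _ ?_
      simp [r, D.P.root_reflectionPerm]
    rw [hα, ← hi] at h1
    change (t ≫ D.i) * (Ga.gaPt x ≫ v) = (Ga.gaPt _ ≫ v) * (t ≫ D.i)
    rw [hv, hv]
    refine mul_left_cancel (a := (toUnit X ≫ w)⁻¹) (mul_right_cancel (b := toUnit X ≫ w) ?_)
    refine Eq.trans ?_ (h1.trans ?_) <;> simp only [P] <;> group
  obtain ⟨σ, hσ⟩ := exists_comp_root v a hr
  have h2 : v ≫ f = v ≫ g := by rw [← hσ, Category.assoc, Category.assoc, hU a ha]
  have hu : D.u (D.P.reflectionPerm a a) = (toUnit _ ≫ w)⁻¹ * v * (toUnit _ ≫ w) := by simp only [v]; group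
  rw [hu, MonObj.mul_comp _ _ f, MonObj.mul_comp _ _ f, GrpObj.inv_comp _ f, MonObj.mul_comp _ _ g,
    MonObj.mul_comp _ _ g, GrpObj.inv_comp _ g, h2, Category.assoc, Category.assoc, hw a ha]

end Groth.Agent.H82.Weyl
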