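import Groth.Agent.H82.Contract.Gen
import Groth.Agent.H82.Weyl.Comb

/-!
# Automorphisms of the split torus and representatives of words of reflections
-/

set_option autoImplicit false
set_option linter.style.haveILetI false
set_option linter.unusedSectionVars false
universe u

open CategoryTheory MonoidalCategory CartesianMonoidalCategory MonObj GrpObj AlgebraicGeometry
open Groth.Agent.Lib.RedPts Groth.Agent.H82.BigCell Groth.Agent.H82.Contract

namespace Groth.Agent.H82.Weyl

variable {S : Scheme.{u}} {G : Over S} [GrpObj G] (D : Red.SplitRed G)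

/-- The action of an endomorphism of the character group on the points of the torus. -/
noncomputable def act (φ : D.M →+ D.M) {X : Over S} (t : X ⟶ D.T) : X ⟶ D.T :=
  t ≫ D.split.hom.hom.hom ≫ Red.DSmap S φ ≫ D.split.inv.hom.hom

/-- The endomorphism of the character group given by a word of reflections. -/
noncomputable def wmap (L : List D.idx) : D.M →+ D.M := (word D.P L).toLinearMap.toAddMonoidHom

variable {D}

theorem ext_dsFn {X : Over S} {t t' : X ⟶ D.T}
    (h : ∀ m, Gm.dsFn (t ≫ D.split.hom.hom.hom) m = Gm.dsFn (t' ≫ D.split.hom.hom.hom) m) : t = t' := by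
  have h1 := congrArg (fun q => q ≫ D.split.inv.hom.hom) (Gm.dsFn_ext h)
  simp only [Category.assoc] at h1
  rwa [split_hom_inv, Category.comp_id, Category.comp_id] at h1

theorem dsFn_act (φ : D.M →+ D.M) {X : Over S} (t : X ⟶ D.T) (m : D.M) :
    Gm.dsFn (act D φ t ≫ D.split.hom.hom.hom) m = Gm.dsFn (t ≫ D.split.hom.hom.hom) (φ m) := by
  simp only [act, Category.assoc]
  rw [split_inv_hom, Category.comp_id, ← Category.assoc, Gm.dsFn_DSmap]

theorem comp_act (φ : D.M →+ D.M) {X X' : Over S} (x : X' ⟶ X) (t : X ⟶ D.T) :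
    x ≫ act D φ t = act D φ (x ≫ t) := by simp [act]

theorem act_act (φ ψ : D.M →+ D.M) {X : Over S} (t : X ⟶ D.T) :
    act D φ (act D ψ t) = act D (ψ.comp φ) t :=
  ext_dsFn fun m => by rw [dsFn_act, dsFn_act, dsFn_act]; rfl

theorem act_id {X : Over S} (t : X ⟶ D.T) : act D (AddMonoidHom.id D.M) t = t :=
  ext_dsFn fun m => by rw [dsFn_act]; rfl

theorem dsFn_cochar (l : D.M →+ ℤ) {X : Over S} (z : X ⟶ Red.Gm S) (m : D.M) :
    Gm.dsFn ((z ≫ cochar D l) ≫ D.split.hom.hom.hom) m = Gm.dsFn z (l m) := by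
  simp only [cochar, Category.assoc]
  rw [split_inv_hom, Category.comp_id, Gm.dsFn_DSmap]

theorem act_cochar (φ : D.M →+ D.M) (l : D.M →+ ℤ) {X : Over S} (z : X ⟶ Red.Gm S) :
    act D φ (z ≫ cochar D l) = z ≫ cochar D (l.comp φ) :=
  ext_dsFn fun m => by rw [dsFn_act, dsFn_cochar, dsFn_cochar]; rfl

theorem wmap_cons (a : D.idx) (L : List D.idx) :
    wmap D (a :: L) = (D.P.reflection a).toLinearMap.toAddMonoidHom.comp (wmap D L) := by
  ext m
  simp [wmap, LinearEquiv.mul_apply]

theorem wmap_nil : wmap D ([] : List D.idx) = AddMonoidHom.id D.M := by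
  ext m; simp [wmap]

theorem wmap_reverse_comp (L : List D.idx) : (wmap D L).comp (wmap D L.reverse) = AddMonoidHom.id D.M := by
  ext m
  simp only [wmap, AddMonoidHom.comp_apply, LinearMap.toAddMonoidHom_coe, LinearEquiv.coe_coe,
    AddMonoidHom.id_apply, word_reverse, ← LinearEquiv.mul_apply, mul_inv_cancel, LinearEquiv.coe_one, id_eq]

/-- Conjugation by `g` acts on the torus by `φ`. -/
def ActsBy (φ : D.M →+ D.M) {X : Over S} (g : X ⟶ G) : Prop :=
  ∀ (Y : Over S) (f : Y ⟶ X) (t : Y ⟶ D.T), (f ≫ g) * (t ≫ D.i) * (f ≫ g)⁻¹ = act D φ t ≫ D.i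

theorem ActsBy.comp {φ : D.M →+ D.M} {X X' : Over S} {g : X ⟶ G} (h : ActsBy φ g) (x : X' ⟶ X) :
    ActsBy φ (x ≫ g) := fun Y f t => by
  simpa only [Category.assoc] using h Y (f ≫ x) t

theorem ActsBy.mul {φ ψ : D.M →+ D.M} {X : Over S} {g h : X ⟶ G} (hg : ActsBy φ g) (hh : ActsBy ψ h) :
    ActsBy (ψ.comp φ) (g * h) := fun Y f t => by
  rw [← act_act, ← hg Y f, ← hh Y f t, MonObj.comp_mul]
  group

theorem ActsBy.inv {φ ψ : D.M →+ D.M} {X : Over S} {g : X ⟶ G} (hg : ActsBy φ g)
    (h : ψ.comp φ = AddMonoidHom.id D.M) : ActsBy ψ g⁻¹ := fun Y f t => by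
  have h1 := hg Y f (act D ψ t)
  rw [act_act, h, act_id] at h1
  rw [GrpObj.comp_inv, ← h1]
  group

theorem actsBy_one {X : Over S} : ActsBy (AddMonoidHom.id D.M) (1 : X ⟶ G) := fun Y f t => by
  rw [act_id, MonObj.comp_one]; group

/-- Every word of reflections is realized by a section. -/
theorem exists_actsBy (L : List D.idx) :
    ∃ g : 𝟙_ (Over S) ⟶ G, ∀ X : Over S, ActsBy (wmap D L) (toUnit X ≫ g) := by
  induction L with
  | nil => exact ⟨1, fun X => by rw [MonObj.comp_one, wmap_nil]; exact actsBy_one⟩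
  | cons a L ih =>
    obtain ⟨g, hg⟩ := ih
    obtain ⟨n, hn⟩ := D.refl a
    refine ⟨g * n, fun X => ?_⟩
    rw [MonObj.comp_mul, wmap_cons]
    refine (hg X).mul fun Y f t => ?_
    rw [← Category.assoc, toUnit_unique (f ≫ toUnit X) (toUnit Y), hn Y t]
    simp [act]

end Groth.Agent.H82.Weyl
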