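import Groth.Agent.H82.Weyl.Act

/-!
# Field points normalizing the torus
-/

set_option autoImplicit false
set_option linter.style.haveILetI false
set_option linter.unusedSectionVars false
universe u

open CategoryTheory MonoidalCategory CartesianMonoidalCategory MonObj GrpObj AlgebraicGeometry
open Groth.Agent.Lib.RedPts Groth.Agent.H82.BigCell Groth.Agent.H82.Contract
open Groth.Agent.H82.RankOne (P P_eq gmPt_comp gmPt_eq)

namespace Groth.Agent.H82.Weyl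

theorem exists_monomial {R : Type*} [CommRing R] [IsDomain R] {u : LaurentPolynomial R} (hu : IsUnit u) :
    ∃ (a : R) (k : ℤ), u = LaurentPolynomial.C a * LaurentPolynomial.T k := by
  obtain ⟨v, hv⟩ := hu.exists_right_inv
  obtain ⟨n, p, hp⟩ := u.exists_T_pow
  obtain ⟨m, q, hq⟩ := v.exists_T_pow
  have h1 : p * q = Polynomial.X ^ (n + m) := Polynomial.toLaurent_injective (by
    rw [map_mul, hp, hq, Polynomial.toLaurent_X_pow, Nat.cast_add, LaurentPolynomial.T_add,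
      _root_.mul_mul_mul_comm, hv, _root_.one_mul])
  obtain ⟨i, -, hi⟩ := (dvd_prime_pow Polynomial.prime_X _).1 (Dvd.intro q h1)
  obtain ⟨w, hw⟩ := hi.symm
  obtain ⟨a, -, ha⟩ := Polynomial.isUnit_iff.1 w.isUnit
  refine ⟨a, (i : ℤ) - n, ?_⟩
  have h2 : u * LaurentPolynomial.T (n : ℤ) = LaurentPolynomial.C a * LaurentPolynomial.T (i : ℤ) := by
    rw [← hp, ← hw, ← ha, map_mul, Polynomial.toLaurent_X_pow, Polynomial.toLaurent_C, _root_.mul_comm]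
  calc u = u * LaurentPolynomial.T (n : ℤ) * LaurentPolynomial.T (-(n : ℤ)) := by
        rw [_root_.mul_assoc, ← LaurentPolynomial.T_add, add_neg_cancel, LaurentPolynomial.T_zero, _root_.mul_one]
    _ = _ := by rw [h2, _root_.mul_assoc, ← LaurentPolynomial.T_add, sub_eq_add_neg]

variable {S : Scheme.{u}} {G : Over S} [GrpObj G] {D : Red.SplitRed G}

/-- A monoid map of functions determines a map of functionals. -/
theorem eq_of_cochar_eq {Y : Over S} [IsAffine Y.left] [Nontrivial Γ(Y.left, ⊤)] {l l' : D.M →+ ℤ}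
    (h : Gm.gmPt (sU Y) ≫ cochar D l = Gm.gmPt (sU Y) ≫ cochar D l') : l = l' := by
  refine AddMonoidHom.ext fun m => ?_
  have h1 := congrArg (fun q => Red.gmFn (q ≫ chr D m)) h
  simp only [gmFn_cochar] at h1
  have h2 : ∀ k : ℤ, ((sU Y ^ k : Γ((laur Y).left, ⊤)ˣ) : Γ((laur Y).left, ⊤)) =
      fn Y _ (LaurentPolynomial.T k) := fun k => by
    induction k using Int.induction_on with
    | zero => simp [LaurentPolynomial.T_zero]
    | succ i hi => rw [zpow_add_one, Units.val_mul, hi, sU_val, ← map_mul, ← LaurentPolynomial.T_add]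
    | pred i hi =>
      rw [zpow_sub_one, Units.val_mul, hi, Units.mul_inv_eq_iff_eq_mul, sU_val, ← map_mul,
        ← LaurentPolynomial.T_add]
      simp
  rw [h2, h2] at h1
  have h3 := congrArg (fun r : LaurentPolynomial Γ(Y.left, ⊤) => r.coeff (l m)) ((fn Y _).injective h1)
  simp only [LaurentPolynomial.T] at h3
  by_contra hne
  simp [Finsupp.single_apply, Ne.symm hne] at h3

/-- Conjugation by `g` carries the cocharacter of `l` to the one of `l'`. -/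
def Carries (l l' : D.M →+ ℤ) {X : Over S} (g : X ⟶ G) : Prop :=
  ∀ (Z : Over S) (f : Z ⟶ X) (z : Z ⟶ Red.Gm S),
    (f ≫ g) * (z ≫ gcochar D l) * (f ≫ g)⁻¹ = z ≫ gcochar D l'

theorem Carries.comp {l l' : D.M →+ ℤ} {X X' : Over S} {g : X ⟶ G} (h : Carries l l' g) (x : X' ⟶ X) :
    Carries l l' (x ≫ g) := fun Y f t => by
  simpa only [Category.assoc] using h Y (f ≫ x) t

theorem Carries.mul {l l' l'' : D.M →+ ℤ} {X : Over S} {g h : X ⟶ G} (hg : Carries l' l'' g)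
    (hh : Carries l l' h) : Carries l l'' (g * h) := fun Y f t => by
  rw [← hg Y f t, ← hh Y f t, MonObj.comp_mul]
  group

theorem ActsBy.carries {φ : D.M →+ D.M} {X : Over S} {g : X ⟶ G} (h : ActsBy φ g) (l : D.M →+ ℤ) :
    Carries l (l.comp φ) g := fun Y f z => by
  rw [← Category.assoc z, h Y f, act_cochar, Category.assoc]

/-- Conjugation transfers limits. -/
theorem isLimPt_conj {c c' : Red.Gm S ⟶ G} {X : Over S} {g a : X ⟶ G}
    (h : ∀ (Z : Over S) (f : Z ⟶ X) (z : Z ⟶ Red.Gm S), (f ≫ g) * (z ≫ c) * (f ≫ g)⁻¹ = z ≫ c')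
    (ha : IsLimPt c a 1) : IsLimPt c' (g * a * g⁻¹) 1 := fun Y f hY => by
  obtain ⟨p, hp, hp0⟩ := ha Y f hY
  refine ⟨(polyHom Y ≫ f ≫ g) * p * (polyHom Y ≫ f ≫ g)⁻¹, ?_, ?_⟩
  · rw [MonObj.comp_mul, MonObj.comp_mul, GrpObj.comp_inv, toPoly_polyHom_assoc, hp, conjPt, conjPt,
      cs, cs, ← h (laur Y) (laurHom Y ≫ f) (Gm.gmPt (sU Y))]
    simp only [MonObj.comp_mul, GrpObj.comp_inv, Category.assoc]
    group
  · rw [MonObj.comp_mul, MonObj.comp_mul, GrpObj.comp_inv, zeroSec_polyHom_assoc, hp0]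
    simp only [MonObj.comp_one, _root_.mul_one, mul_inv_cancel]

theorem Carries.inv_cochar {l l' : D.M →+ ℤ} {X : Over S} {g : X ⟶ G} (h : Carries l l' g)
    (Z : Over S) (f : Z ⟶ X) (z : Z ⟶ Red.Gm S) :
    (f ≫ g) * (z ≫ (gcochar D l)⁻¹) * (f ≫ g)⁻¹ = z ≫ (gcochar D l')⁻¹ := by
  rw [GrpObj.comp_inv, GrpObj.comp_inv, ← h Z f z]
  group

/-- A point carrying a regular cocharacter to one with the same signs fixes it. -/
theorem eq_of_carries {l l' : D.M →+ ℤ} (hl : ∀ a, l (D.P.root a) ≠ 0)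
    (hs : ∀ a, (0 < l (D.P.root a) ↔ 0 < l' (D.P.root a))) (hl' : ∀ a, l' (D.P.root a) ≠ 0)
    {X : Over S} [Nonempty X.left] {g : X ⟶ G} (hg : Carries l l' g) : l = l' := by
  haveI := isAffineHom D
  obtain ⟨n, m, e, e', he, he', -, -, ho⟩ := exists_cell hl
  have hse : ∀ k, l' (D.P.root (e k)) < 0 := fun k => by
    have h1 := hs (e k); have := he k; have := hl' (e k); omega
  have hse' : ∀ k, 0 < l' (D.P.root (e' k)) := fun k => (hs _).1 (he' k)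
  obtain ⟨X', c, z, z', -, hsurj, hz⟩ := exists_translate (e := e) (e' := e') g
  obtain ⟨p⟩ : Nonempty X'.left := ⟨(c.left.surjective (Classical.arbitrary X.left)).choose⟩
  have hg' := hg.comp c
  set γ := c ≫ g with hγ
  set y₀ := (z ≫ fst _ _) ≫ RedSub.prodMap (Red.Ga S) n fun k => D.u (e k) with hy₀
  set y₁ := (z' ≫ fst _ _) ≫ RedSub.prodMap (Red.Ga S) n fun k => D.u (e k) with hy₁
  set t₀ := z ≫ snd _ _ ≫ fst _ _ with ht₀
  set t₁ := z' ≫ snd _ _ ≫ fst _ _ with ht₁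
  set x₀ := (z ≫ snd _ _ ≫ snd _ _) ≫ RedSub.prodMap (Red.Ga S) m fun k => D.u (e' k) with hx₀
  set x₁ := (z' ≫ snd _ _ ≫ snd _ _) ≫ RedSub.prodMap (Red.Ga S) m fun k => D.u (e' k) with hx₁
  have hz₀ := (congrArg (γ * ·) (comp_cellMap e' z)).symm.trans (hz.trans (comp_cellMap e' z'))
  have hY : IsLimPt (gcochar D l')⁻¹ ((γ * y₀ * γ⁻¹)⁻¹ * y₁) 1 := by
    have := (isLimPt_conj hg'.inv_cochar (isLimPt_neg he (z ≫ fst _ _))).inv.mul (isLimPt_neg hse (z' ≫ fst _ _))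
    rwa [inv_one, _root_.one_mul] at this
  have hX : IsLimPt (gcochar D l') ((t₀ ≫ D.i) * (x₁ * x₀⁻¹) * (t₀ ≫ D.i)⁻¹) 1 := by
    refine isLimPt_conj (c := gcochar D l') (fun Z f w => ?_) ?_
    · rw [← Category.assoc f, ← Category.assoc w, ← GrpObj.inv_comp, ← MonObj.mul_comp, ← MonObj.mul_comp,
        torus_comm D (f ≫ t₀), mul_inv_cancel_right]
    · have := (isLimPt_pos hse' (z' ≫ snd _ _ ≫ snd _ _)).mul (isLimPt_pos hse' (z ≫ snd _ _ ≫ snd _ _)).inv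
      rwa [inv_one, _root_.one_mul] at this
  have hsplit : γ = ((γ * y₀ * γ⁻¹)⁻¹ * y₁) *
      (((t₁ * t₀⁻¹) ≫ D.i) * ((t₀ ≫ D.i) * (x₁ * x₀⁻¹) * (t₀ ≫ D.i)⁻¹)) := by
    rw [MonObj.mul_comp, GrpObj.inv_comp]
    have h1 : y₁ = γ * (y₀ * ((t₀ ≫ D.i) * x₀)) * x₁⁻¹ * (t₁ ≫ D.i)⁻¹ := by
      rw [eq_mul_inv_iff_mul_eq, eq_mul_inv_iff_mul_eq, _root_.mul_assoc]
      exact hz₀.symm
    rw [h1]
    group
  set Y := (γ * y₀ * γ⁻¹)⁻¹ * y₁
  set X₁ := (t₀ ≫ D.i) * (x₁ * x₀⁻¹) * (t₀ ≫ D.i)⁻¹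
  haveI : IsAffine (ptObj X' p).left := inferInstanceAs (IsAffine (Spec (X'.left.residueField p)))
  haveI : Nontrivial Γ((ptObj X' p).left, ⊤) := (isField_ptObj X' p).nontrivial
  refine eq_of_cochar_eq (Y := ptObj X' p) ?_
  clear_value Y X₁
  let q := laurHom (ptObj X' p) ≫ ptHom X' p
  let w : laur (ptObj X' p) ⟶ Red.Gm S := Gm.gmPt (sU (ptObj X' p))
  let C := (w ≫ cochar D l) ≫ D.i
  let C' := (w ≫ cochar D l') ≫ D.i
  have hcar : (q ≫ γ) * C * (q ≫ γ)⁻¹ = C' := by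
    simpa only [C, C', Category.assoc] using hg' _ q w
  have h2 : (q ≫ Y) * (((q ≫ (t₁ * t₀⁻¹)) ≫ D.i) * C * (C⁻¹ * (q ≫ X₁) * C)) =
      (C' * (q ≫ Y) * C'⁻¹) * ((C' * ((q ≫ (t₁ * t₀⁻¹)) ≫ D.i)) * (q ≫ X₁)) := by
    have h1 : q ≫ γ = (q ≫ Y) * (((q ≫ (t₁ * t₀⁻¹)) ≫ D.i) * (q ≫ X₁)) := by
      rw [hsplit, MonObj.comp_mul, MonObj.comp_mul, Category.assoc q _ D.i]
    rw [mul_inv_eq_iff_eq_mul, h1] at hcar
    refine Eq.trans ?_ (hcar.trans ?_) <;> group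
  have hcomm : ∀ (τ : laur (ptObj X' p) ⟶ D.T) (Z : Over S) (f : Z ⟶ laur (ptObj X' p)) (v : Z ⟶ Red.Gm S),
      (f ≫ τ ≫ D.i) * (v ≫ gcochar D l') * (f ≫ τ ≫ D.i)⁻¹ = v ≫ gcochar D l' := fun τ Z f v => by
    rw [← Category.assoc f, ← Category.assoc v, ← GrpObj.inv_comp, ← MonObj.mul_comp, ← MonObj.mul_comp,
      torus_comm D (f ≫ τ), mul_inv_cancel_right]
  have hcomm' : ∀ (τ : laur (ptObj X' p) ⟶ D.T) (Z : Over S) (f : Z ⟶ laur (ptObj X' p)) (v : Z ⟶ Red.Gm S),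
      (f ≫ τ ≫ D.i) * (v ≫ (gcochar D l')⁻¹) * (f ≫ τ ≫ D.i)⁻¹ = v ≫ (gcochar D l')⁻¹ := fun τ Z f v => by
    rw [GrpObj.comp_inv]
    conv_rhs => rw [← hcomm τ Z f v]
    group
  have hC' : IsLimPt (gcochar D l')⁻¹ (C' * (q ≫ Y) * C'⁻¹) 1 := by
    refine isLimPt_conj (hcomm' _) ?_
    have := hY.comp q; rwa [MonObj.comp_one] at this
  have hC : IsLimPt (gcochar D l') (C⁻¹ * (q ≫ X₁) * C) 1 := by
    have h := isLimPt_conj (hcomm (w ≫ cochar D l)⁻¹) (show IsLimPt (gcochar D l') (q ≫ X₁) 1 by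
      have := hX.comp q; rwa [MonObj.comp_one] at this)
    rwa [GrpObj.inv_comp, _root_.inv_inv] at h
  have ht : ∀ a b : laur (ptObj X' p) ⟶ D.T, IsLimPt (gcochar D l') ((a ≫ D.i) * (b ≫ D.i)) ((a ≫ D.i) * (b ≫ D.i)) :=
    fun a b => by rw [← MonObj.mul_comp]; exact isLimPt_torus_pt _
  have h3 := (factors_unique (by have := hY.comp q; rwa [MonObj.comp_one] at this) hC' (ht _ _) (ht _ _) hC
    (by have := hX.comp q; rwa [MonObj.comp_one] at this) h2).2.1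
  rw [← MonObj.mul_comp, ← MonObj.mul_comp, cancel_mono, torus_comm D (q ≫ (t₁ * t₀⁻¹))] at h3
  exact mul_right_cancel h3

end Groth.Agent.H82.Weyl
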