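import Groth.Agent.H82.Weyl.Global
import Groth.Agent.H82.Contract.Commute

/-!
# Characters carried by monomorphic additive subgroups are roots
-/

set_option autoImplicit false
set_option linter.style.haveILetI false
set_option linter.unusedSectionVars false
universe u

open CategoryTheory MonoidalCategory CartesianMonoidalCategory MonObj GrpObj AlgebraicGeometry
open Groth.Agent.Lib.RedPts Groth.Agent.H82.BigCell Groth.Agent.H82.Contract
open Groth.Agent.H82.RankOne (P P_eq P_zero P_comp)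

namespace Groth.Agent.H82.Weyl

theorem exists_functional_option {M : Type} [AddCommGroup M] [Module.Finite ℤ M] [Module.Free ℤ M]
    {κ : Type} [Fintype κ] (v : κ → M) (hv : ∀ k, v k ≠ 0) : ∃ l : M →+ ℤ, ∀ k, l (v k) ≠ 0 := by
  classical
  let B := Module.finBasis ℤ M
  let q : κ → Polynomial ℤ := fun a => ∑ j : Fin (Module.finrank ℤ M), Polynomial.monomial (j : ℕ) (B.repr (v a) j)
  have hq : ∀ a, q a ≠ 0 := fun a h => by
    refine hv a (B.ext_elem fun j => ?_)
    have h2 := congrArg (fun r => Polynomial.coeff r (j : ℕ)) h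
    simp only [q, Polynomial.finsetSum_coeff, Polynomial.coeff_monomial, Polynomial.coeff_zero] at h2
    rw [Finset.sum_eq_single j (fun k _ hk => if_neg fun h => hk (Fin.ext h))
      (fun h => absurd (Finset.mem_univ j) h), if_pos rfl] at h2
    simpa using h2
  obtain ⟨N, hN⟩ := Infinite.exists_notMem_finset (Finset.univ.biUnion fun a => (q a).roots.toFinset)
  refine ⟨(∑ j : Fin (Module.finrank ℤ M), (N ^ (j : ℕ)) • B.coord j).toAddMonoidHom, fun a ha => hN ?_⟩
  refine Finset.mem_biUnion.2 ⟨a, Finset.mem_univ a, Multiset.mem_toFinset.2 ((Polynomial.mem_roots (hq a)).2 ?_)⟩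
  rw [Polynomial.IsRoot.def, ← ha, Polynomial.eval_finsetSum]
  simp [Polynomial.eval_monomial, mul_comm]

theorem eq_zero_of_weights {A : Type*} [CommRing A] {M : Type*} [AddCommGroup M] {a α : M} (ha : a ≠ 0)
    (hα : α ≠ a) {q x y e : A}
    (h : (AddMonoidAlgebra.single a 1 * AddMonoidAlgebra.single 0 q : AddMonoidAlgebra A M) =
      AddMonoidAlgebra.single 0 x + AddMonoidAlgebra.single 0 y * (AddMonoidAlgebra.single α 1 * AddMonoidAlgebra.single 0 e)) :
    q = 0 := by
  classical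
  have h2 := congrArg (fun p : AddMonoidAlgebra A M => p.coeff a) h
  simpa [AddMonoidAlgebra.single_mul_single, Finsupp.single_apply, ha.symm, hα] using h2

variable {S : Scheme.{u}} {G : Over S} [GrpObj G] {D : Red.SplitRed G}

/-- The coordinates of an element of a subgroup of character `α` have weight `α`. -/
theorem coords_equivariant {m : ℕ} {e' : Fin m → D.idx}
    [Mono (RedSub.prodMap (Red.Ga S) m fun k => D.u (e' k))] {v : Red.Ga S ⟶ G} {α : D.M}
    (hv : IsRootPts D.i (chr D α) v) {Y' W : Over S} {ε : Γ(Y'.left, ⊤)}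
    {z : Y' ⟶ RedSub.pow (Red.Ga S) m}
    (hz : (z ≫ RedSub.prodMap (Red.Ga S) m fun k => D.u (e' k)) = P v ε)
    (c d : W ⟶ Y') (t : W ⟶ D.T)
    (hd : d.left.appTop ε = Red.gmFn (t ≫ chr D α) * c.left.appTop ε) (k : Fin m) :
    Red.gmFn (t ≫ chr D (D.P.root (e' k))) * c.left.appTop (Red.gaFn (z ≫ proj m k)) =
      d.left.appTop (Red.gaFn (z ≫ proj m k)) := by
  have key : tuple m (fun j => Ga.gaPt (Red.gmFn (t ≫ chr D (D.P.root (e' j))) *
      c.left.appTop (Red.gaFn (z ≫ proj m j)))) = d ≫ z := by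
    rw [← cancel_mono (RedSub.prodMap (Red.Ga S) m fun j => D.u (e' j)), Category.assoc d, hz, P_comp, hd]
    refine mul_right_cancel (b := t ≫ D.i) ?_
    rw [← hv t, ← P_comp, ← hz, ← Category.assoc c, comp_prodMap, comp_prodMap]
    refine (mul_prodPts _ fun j => ?_).symm
    rw [← Category.assoc _ (proj m j), ← Category.assoc _ (proj m j), tuple_proj, P_eq, Category.assoc c,
      Ga.gaFn_comp, isRootPts D (e' j) t, P_eq, Ga.gaFn_gaPt]
  have h1 := congrArg (fun w => Red.gaFn (w ≫ proj m k)) key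
  simpa only [tuple_proj, Ga.gaFn_gaPt, Category.assoc, Ga.gaFn_comp] using h1

/-- The universal point of the torus. -/
theorem exists_univ_torus (Y : Over S) [IsAffine Y.left] :
    ∃ t : BigCell.ext Y (AddMonoidAlgebra.singleZeroRingHom :
        Γ(Y.left, ⊤) →+* AddMonoidAlgebra Γ(Y.left, ⊤) D.M) ⟶ D.T,
      ∀ x, Red.gmFn (t ≫ chr D x) = fn Y _ (AddMonoidAlgebra.single x 1) := by
  let φ : Γ(Y.left, ⊤) →+* AddMonoidAlgebra Γ(Y.left, ⊤) D.M := AddMonoidAlgebra.singleZeroRingHom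
  let χ : Multiplicative D.M →* Γ((BigCell.ext Y φ).left, ⊤) :=
    (fn Y φ).toRingHom.toMonoidHom.comp (AddMonoidAlgebra.of Γ(Y.left, ⊤) D.M)
  refine ⟨Gm.dsPt χ ≫ D.split.inv.hom.hom, fun x => ?_⟩
  rw [Category.assoc, chr, ← Category.assoc D.split.inv.hom.hom, split_inv_hom, Category.id_comp, Gm.gmFn_chi,
    Gm.dsFn_dsPt]
  rfl

theorem eq_zero_of_weights' {A B : Type*} [CommRing A] [CommRing B] {M : Type*} [AddCommGroup M]
    (f : AddMonoidAlgebra A M ≃+* B) (E d : A →+* B) (hE : ∀ x, E x = f (AddMonoidAlgebra.single 0 x)) {a α : M}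
    (ha : a ≠ 0) (hα : α ≠ a) {q x y e : A} {ua uα : B} (hq : q = x + y * e) (hx : d x = E x) (hy : d y = E y)
    (he : d e = uα * E e) (hua : ua = f (AddMonoidAlgebra.single a 1)) (huα : uα = f (AddMonoidAlgebra.single α 1))
    (h : ua * E q = d q) : q = 0 := by
  nth_rewrite 2 [hq] at h
  rw [map_add, map_mul, hx, hy, he, hua, huα, hE, hE, hE, hE, ← map_mul, ← map_mul, ← map_mul, ← map_add] at h
  exact eq_zero_of_weights ha hα (f.injective h)

theorem appTop_eq_of_comp_eq {W X Y : Over S} {d c : W ⟶ X} {p : X ⟶ Y} (h : d ≫ p = c ≫ p) (x : Γ(Y.left, ⊤)) :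
    d.left.appTop.hom (p.left.appTop x) = c.left.appTop.hom (p.left.appTop x) := by
  rw [← CommRingCat.comp_apply, ← Scheme.Hom.comp_appTop, ← Over.comp_left, h, Over.comp_left,
    Scheme.Hom.comp_appTop, CommRingCat.comp_apply]

theorem exists_dual_lift {W Y : Over S} [IsAffine Y.left] (c : W ⟶ Y) {a : Γ(W.left, ⊤)} (ha : a * a = 0) :
    ∃ d : W ⟶ BigCell.ext Y (algebraMap Γ(Y.left, ⊤) (DualNumber Γ(Y.left, ⊤))),
      d ≫ extHom Y _ = c ∧ d.left.appTop (fn Y _ DualNumber.eps) = a := by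
  let φ : Γ(Y.left, ⊤) →+* DualNumber Γ(Y.left, ⊤) := algebraMap _ _
  letI : Algebra Γ(Y.left, ⊤) Γ(W.left, ⊤) := c.left.appTop.hom.toAlgebra
  let θ : DualNumber Γ(Y.left, ⊤) →ₐ[Γ(Y.left, ⊤)] Γ(W.left, ⊤) :=
    DualNumber.lift ⟨(Algebra.ofId _ _, a), ha, fun r => Commute.all _ _⟩
  obtain ⟨d, hd0, hd⟩ := exists_toExt φ c θ.toRingHom (by
    refine RingHom.ext fun r => ?_
    exact θ.commutes r)
  exact ⟨d, hd0, (hd _).trans (DualNumber.lift_apply_eps _)⟩

theorem sq_zero_of_map {A B : Type*} [CommRing A] [CommRing B] (f : A →+* B) {a : A} (h : a * a = 0) (b : B) :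
    b * f a * (b * f a) = 0 := by
  rw [_root_.mul_mul_mul_comm, ← map_mul, h, map_zero, MulZeroClass.mul_zero]

/-- A monomorphic homomorphism from the additive group on which the torus acts by a non-zero character
has a root as character. -/
theorem exists_root (v : Red.Ga S ⟶ G) [IsMonHom v] [Mono v] (α : D.M) (hv : IsRootPts D.i (chr D α) v)
    (hα : α ≠ 0) (Y : Over S) [IsAffine Y.left] [Nontrivial Γ(Y.left, ⊤)] : ∃ a, D.P.root a = α := by
  classical
  by_contra hne
  push Not at hne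
  haveI := isAffineHom D
  let vs : Option D.idx → D.M := fun o => o.elim α fun a => D.P.root a
  obtain ⟨l₀, hl₀⟩ := exists_functional_option vs fun o => by
    cases o with
    | none => exact hα
    | some a => exact D.P.ne_zero a
  obtain ⟨l, hla, hl⟩ : ∃ l : D.M →+ ℤ, 0 < l α ∧ ∀ a, l (D.P.root a) ≠ 0 := by
    rcases lt_or_gt_of_ne (show l₀ α ≠ 0 from hl₀ none) with h | h
    · exact ⟨-l₀, by simpa using h, fun a => by simpa [vs] using hl₀ (some a)⟩
    · exact ⟨l₀, h, fun a => hl₀ (some a)⟩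
  obtain ⟨n, m, e, e', he, he', -, hinj, ho⟩ := exists_cell hl
  haveI := mono_of_isClosedImmersion _ (mono_prodMap_pos hinj he')
  let φ : Γ(Y.left, ⊤) →+* DualNumber Γ(Y.left, ⊤) := algebraMap _ _
  let ε : Γ((BigCell.ext Y φ).left, ⊤) := fn Y φ DualNumber.eps
  have hdeg : HasDeg (cochar D l) (chr D α) ((l α).toNat : ℤ) := by
    rw [Int.toNat_of_nonneg hla.le]; exact hasDeg D l α
  obtain ⟨z, hz⟩ := exists_prod_of_isLimPt (e := e) (e' := e') he he'
    (isLimPt_root hv (by omega) hdeg ε)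
  let ψ : Γ((BigCell.ext Y φ).left, ⊤) →+* AddMonoidAlgebra Γ((BigCell.ext Y φ).left, ⊤) D.M :=
    AddMonoidAlgebra.singleZeroRingHom
  obtain ⟨t, ht⟩ := exists_univ_torus (D := D) (BigCell.ext Y φ)
  let c := extHom (BigCell.ext Y φ) ψ
  let ε' := Red.gmFn (t ≫ chr D α) * c.left.appTop ε
  have hε : ε * ε = 0 := by
    rw [← map_mul, DualNumber.eps_mul_eps, map_zero]
  have hε' : ε' * ε' = 0 := sq_zero_of_map c.left.appTop.hom hε _
  obtain ⟨d, hd0, hdε⟩ : ∃ d : BigCell.ext (BigCell.ext Y φ) ψ ⟶ BigCell.ext Y φ,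
      d ≫ extHom Y φ = c ≫ extHom Y φ ∧ d.left.appTop ε = ε' := by
    exact exists_dual_lift (c ≫ extHom Y φ) hε'
  have hq : ∀ k, Red.gaFn (z ≫ proj m k) = 0 := fun k => by
    have h1 := coords_equivariant hv hz c d t hdε k
    obtain ⟨r, hr⟩ := (fn Y φ).surjective (Red.gaFn (z ≫ proj m k))
    have hr' : Red.gaFn (z ≫ proj m k) =
        (extHom Y φ).left.appTop r.fst + (extHom Y φ).left.appTop r.snd * ε := by
      rw [← hr, extHom_fn, extHom_fn, ← map_mul, ← map_add]
      refine congrArg _ (TrivSqZeroExt.ext ?_ ?_) <;> simp [φ, TrivSqZeroExt.algebraMap_eq_inl]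
    have hd1 := appTop_eq_of_comp_eq hd0
    exact eq_zero_of_weights' (fn _ ψ) c.left.appTop.hom d.left.appTop.hom
      (fun x => extHom_fn _ ψ x) (D.P.ne_zero (e' k)) (hne (e' k)).symm hr'
      (hd1 r.fst) (hd1 r.snd) hdε (ht _) (ht _) h1
  have hv0 : P v ε = 1 := by
    rw [← hz, comp_prodMap]
    refine prodPts_one fun k => ?_
    rw [← Category.assoc, P_eq, hq k, P_zero]
  rw [← P_zero v] at hv0
  have h4 := congrArg Red.gaFn ((cancel_mono v).1 hv0)
  rw [Ga.gaFn_gaPt, Ga.gaFn_gaPt, ← map_zero (fn Y φ)] at h4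
  have h5 := congrArg TrivSqZeroExt.snd ((fn Y φ).injective h4)
  simp at h5

end Groth.Agent.H82.Weyl
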